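import Cfsg.Agent.Lib.SymSylowGen.Basic
import Mathlib.GroupTheory.Perm.Cycle.Type
import Mathlib.GroupTheory.Perm.ViaEmbedding

/-
Permutations of `Fin m × ZMod p` respecting the blocks `{i} × ZMod p`.
Main definitions (namespace `Cfsg.Agent.AltFusion`): `base`, `ind`, `evenWreath`, `diagMap`.
Main results: `isConj_of_pow_eq_one`, `blocks_preserved`, `normalizer_eq_of_isSylowTwo`.
-/

set_option autoImplicit false

open Equiv Cfsg.Agent.SymSylowGen

namespace Cfsg.Agent.AltFusion

variable {m p : ℕ}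

theorem baseMap_add (f g : Fin m → ZMod p) : baseMap (f + g) = baseMap f * baseMap g :=
  Equiv.ext fun ⟨i, x⟩ => by
    simp only [Perm.mul_apply, baseMap_apply, Pi.add_apply]
    ext <;> simp [add_assoc, add_comm, add_left_comm]

/-- `baseMap` as a homomorphism. -/
def baseHom : Multiplicative (Fin m → ZMod p) →* Perm (Fin m × ZMod p) :=
  MonoidHom.mk' (fun f => baseMap f.toAdd) fun f g => baseMap_add f.toAdd g.toAdd

/-- The base group. -/
def base : Subgroup (Perm (Fin m × ZMod p)) := (baseHom (m := m) (p := p)).range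

theorem mem_base {x : Perm (Fin m × ZMod p)} : x ∈ base ↔ ∃ f, baseMap f = x :=
  ⟨fun ⟨f, hf⟩ => ⟨f.toAdd, hf⟩, fun ⟨f, hf⟩ => ⟨Multiplicative.ofAdd f, hf⟩⟩

theorem baseMap_mem_base (f : Fin m → ZMod p) : baseMap f ∈ base (m := m) (p := p) :=
  mem_base.2 ⟨f, rfl⟩

theorem baseMap_inj {f g : Fin m → ZMod p} (h : baseMap f = baseMap g) : f = g :=
  funext fun i => by simpa [baseMap_apply] using congrArg Prod.snd (Equiv.congr_fun h (i, 0))

theorem topMap_one' : topMap (1 : Perm (Fin m)) = (1 : Perm (Fin m × ZMod p)) := rfl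

theorem baseMap_zero' : baseMap (0 : Fin m → ZMod p) = 1 := Equiv.ext fun ⟨i, x⟩ => by
  simp [baseMap_apply]

theorem baseMap_pow_prime (f : Fin m → ZMod p) : baseMap f ^ p = 1 := by
  rw [baseMap_pow, ← baseMap_zero']
  congr 1
  funext i
  simp

theorem mem_wreathPerm {W : Subgroup (Perm (Fin m))} {x : Perm (Fin m × ZMod p)} :
    x ∈ wreathPerm W ↔ ∃ f, ∃ w ∈ W, x = baseMap f * topMap w := Iff.rfl

theorem baseMap_mem_wreathPerm (W : Subgroup (Perm (Fin m))) (f : Fin m → ZMod p) :
    baseMap f ∈ wreathPerm W := ⟨f, 1, W.one_mem, by rw [topMap_one', mul_one]⟩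

theorem topMap_mem_wreathPerm {W : Subgroup (Perm (Fin m))} {w : Perm (Fin m)} (hw : w ∈ W) :
    topMap w ∈ wreathPerm (p := p) W :=
  ⟨0, w, hw, by rw [baseMap_zero', one_mul]⟩

theorem baseTop_apply (f : Fin m → ZMod p) (w : Perm (Fin m)) (i : Fin m) (x : ZMod p) :
    (baseMap f * topMap (p := p) w) (i, x) = (w i, x + f (w i)) := rfl

/-- The indicator function of a set of blocks. -/
def ind (A : Finset (Fin m)) : Fin m → ZMod p := fun i => if i ∈ A then 1 else 0

theorem support_baseMap [NeZero p] (f : Fin m → ZMod p) :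
    (baseMap f).support = (Finset.univ.filter fun i => f i ≠ 0) ×ˢ Finset.univ := by
  ext ⟨i, x⟩
  simp [baseMap_apply, Prod.ext_iff]

theorem card_support_baseMap [NeZero p] (f : Fin m → ZMod p) :
    (baseMap f).support.card = (Finset.univ.filter fun i => f i ≠ 0).card * p := by
  rw [support_baseMap, Finset.card_product, Finset.card_univ, ZMod.card]

theorem card_support_ind [Fact p.Prime] (A : Finset (Fin m)) :
    (baseMap (ind A : Fin m → ZMod p)).support.card = A.card * p := by
  rw [card_support_baseMap]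
  congr 2
  ext i
  simp [ind]

variable [hp : Fact p.Prime]

theorem dvd_card_support {α : Type*} [Fintype α] [DecidableEq α] {x : Perm α} (hx : x ^ p = 1) :
    p ∣ x.support.card := by
  rw [← x.sum_cycleType, Perm.cycleType_of_pow_prime_eq_one hx, Multiset.sum_replicate, smul_eq_mul]
  exact dvd_mul_left _ _

theorem isConj_of_pow_eq_one {α : Type*} [Fintype α] [DecidableEq α] {x y : Perm α}
    (hx : x ^ p = 1) (hy : y ^ p = 1) (h : x.support.card = y.support.card) : IsConj x y := by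
  rw [Perm.isConj_iff_cycleType_eq]
  have h' := h
  rw [← x.sum_cycleType, ← y.sum_cycleType, Perm.cycleType_of_pow_prime_eq_one hx,
    Perm.cycleType_of_pow_prime_eq_one hy, Multiset.sum_replicate, Multiset.sum_replicate,
    smul_eq_mul, smul_eq_mul] at h'
  rw [Perm.cycleType_of_pow_prime_eq_one hx, Perm.cycleType_of_pow_prime_eq_one hy,
    Nat.eq_of_mul_eq_mul_right hp.out.pos h']

theorem sign_topMap (w : Perm (Fin m)) :
    Perm.sign (topMap (p := p) w) = Perm.sign w ^ p := by
  rw [topMap, Perm.sign_prodCongrLeft, Finset.prod_const, Finset.card_univ, ZMod.card]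

theorem sign_topMap_of_pow {w : Perm (Fin m)} (hw : w ^ p = 1) :
    Perm.sign (topMap (p := p) w) = 1 := by
  rw [sign_topMap, ← map_pow, hw, map_one]

theorem sign_eq_one_of_pow {α : Type*} [Fintype α] [DecidableEq α] {x : Perm α} {k : ℕ}
    (hk : Odd k) (hx : x ^ k = 1) : Perm.sign x = 1 := by
  have h : Perm.sign x ^ k = 1 := by rw [← map_pow, hx, map_one]
  obtain ⟨j, rfl⟩ := hk
  rwa [pow_succ, pow_mul, Int.units_sq, one_pow, one_mul] at h

/-- The even part of a wreath product. -/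
def evenWreath (P : Subgroup (Perm (Fin m))) : Subgroup (Perm (Fin m × ZMod p)) :=
  wreathPerm P ⊓ alternatingGroup (Fin m × ZMod p)

theorem mem_alt_of_sign {α : Type*} [Fintype α] [DecidableEq α] {x : Perm α}
    (h : Perm.sign x = 1) : x ∈ alternatingGroup α := Perm.mem_alternatingGroup.2 h

theorem isPGroup_wreathPerm {P : Subgroup (Perm (Fin m))} (hP : IsPGroup p P) :
    IsPGroup p (wreathPerm (p := p) P) := by
  obtain ⟨k, hk⟩ := IsPGroup.iff_card.1 hP
  exact IsPGroup.of_card (n := m + k) (by rw [card_wreathPerm, hk, pow_add])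

theorem wreathPerm_le_alt (h2 : p ≠ 2) {P : Subgroup (Perm (Fin m))} (hP : IsPGroup p P) :
    wreathPerm (p := p) P ≤ alternatingGroup (Fin m × ZMod p) := fun x hx => by
  obtain ⟨k, hk⟩ := isPGroup_wreathPerm hP ⟨x, hx⟩
  exact mem_alt_of_sign (sign_eq_one_of_pow ((hp.out.odd_of_ne_two h2).pow)
    (congrArg Subtype.val hk))

theorem topMap_mem_evenWreath {P : Subgroup (Perm (Fin m))} (hP : IsPGroup p P) {w : Perm (Fin m)}
    (hw : w ∈ P) : topMap w ∈ evenWreath (p := p) P := by
  refine ⟨topMap_mem_wreathPerm hw, mem_alt_of_sign ?_⟩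
  rcases hp.out.eq_two_or_odd' with h2 | h2
  · subst h2
    rw [sign_topMap, Int.units_sq]
  · obtain ⟨k, hk⟩ := hP ⟨w, hw⟩
    rw [sign_topMap, sign_eq_one_of_pow (h2.pow (n := k)) (congrArg Subtype.val hk), one_pow]

/-- `g` conjugating `H` into itself normalizes it. -/
theorem mem_normalizer_of_conj {G : Type*} [Group G] [Finite G] {H : Subgroup G} {g : G}
    (h : ∀ x ∈ H, g * x * g⁻¹ ∈ H) : g ∈ Subgroup.normalizer (H : Set G) := by
  have := (Set.toFinite (H : Set G)).to_subtype
  exact Subgroup.mem_normalizer_fintype h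

theorem conj_mem_of_normalizer {G : Type*} [Group G] {H : Subgroup G} {g x : G}
    (hg : g ∈ Subgroup.normalizer (H : Set G)) (hx : x ∈ H) : g * x * g⁻¹ ∈ H :=
  (Subgroup.mem_normalizer_iff.1 hg x).1 hx

/-- A permutation normalizing a group of wreath type respects the blocks, if the group separates
them. -/
theorem blocks_preserved {K : Subgroup (Perm (Fin m × ZMod p))} (hK : K ≤ wreathPerm ⊤)
    (hsep : ∀ a b : Fin m, a ≠ b → ∃ k ∈ K, (∀ x, k (a, x) = (a, x)) ∧ ∀ x, k (b, x) ≠ (b, x))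
    {g : Perm (Fin m × ZMod p)} (hg : g ∈ Subgroup.normalizer (K : Set (Perm (Fin m × ZMod p))))
    (i : Fin m) (x y : ZMod p) : (g (i, x)).1 = (g (i, y)).1 := by
  by_contra hne
  obtain ⟨k, hk, hfix, hmove⟩ := hsep _ _ hne
  have hk' : g⁻¹ * k * g ∈ K := (Subgroup.mem_normalizer_iff''.1 hg k).1 hk
  obtain ⟨f, w, -, hfw⟩ := hK hk'
  have h1 : (g⁻¹ * k * g) (i, x) = (i, x) := by
    rw [Perm.mul_apply, Perm.mul_apply]
    have : k (g (i, x)) = g (i, x) := hfix (g (i, x)).2
    rw [this]; simp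
  rw [hfw, baseTop_apply, Prod.ext_iff] at h1
  obtain ⟨hw, hf⟩ := h1
  simp only at hw hf
  rw [hw] at hf
  have h2 : (g⁻¹ * k * g) (i, y) = (i, y) := by
    rw [hfw, baseTop_apply, hw, add_eq_left.1 hf, add_zero]
  rw [Perm.mul_apply, Perm.mul_apply, Perm.inv_eq_iff_eq] at h2
  exact hmove (g (i, y)).2 h2

/-- A permutation respecting the blocks permutes them. -/
theorem exists_top {g : Perm (Fin m × ZMod p)} (hg : ∀ i x y, (g (i, x)).1 = (g (i, y)).1) :
    ∃ w : Perm (Fin m), ∀ i x, (g (i, x)).1 = w i := by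
  have hs : Function.Surjective fun i => (g (i, 0)).1 := fun j => by
    obtain ⟨⟨i, x⟩, h⟩ := g.surjective (j, 0)
    exact ⟨i, (hg i 0 x).trans (by rw [h])⟩
  exact ⟨Equiv.ofBijective _ ⟨Finite.injective_iff_surjective.2 hs, hs⟩, fun i x => hg i x 0⟩

theorem eq_baseMap_mul_topMap_of_two {g : Perm (Fin m × ZMod 2)} {w : Perm (Fin m)}
    (hw : ∀ i x, (g (i, x)).1 = w i) : ∃ f, g = baseMap f * topMap w := by
  have key : ∀ h : ZMod 2 → ZMod 2, (∀ a b, h a = h b → a = b) → ∀ x, h x = x + h 0 := by decide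
  refine ⟨fun j => (g (w⁻¹ j, 0)).2, Equiv.ext fun ⟨i, x⟩ => ?_⟩
  rw [baseTop_apply]
  refine Prod.ext (hw i x) ?_
  show (g (i, x)).2 = x + (g (w⁻¹ (w i), 0)).2
  rw [show w⁻¹ (w i) = i from w.symm_apply_apply i]
  refine key (fun z => (g (i, z)).2) (fun a b e => ?_) x
  have : g (i, a) = g (i, b) := Prod.ext ((hw i a).trans (hw i b).symm) e
  exact congrArg Prod.snd (g.injective this)

/-- If a permutation respecting the blocks normalizes a group containing all the tops of `P`, its
top normalizes `P`. -/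
theorem top_mem_normalizer {P : Subgroup (Perm (Fin m))} {K : Subgroup (Perm (Fin m × ZMod p))}
    (hK : K ≤ wreathPerm P) (hP : ∀ v ∈ P, topMap v ∈ K) {g : Perm (Fin m × ZMod p)}
    (hg : g ∈ Subgroup.normalizer (K : Set (Perm (Fin m × ZMod p)))) {w : Perm (Fin m)}
    (hw : ∀ i x, (g (i, x)).1 = w i) : w ∈ Subgroup.normalizer (P : Set (Perm (Fin m))) := by
  refine mem_normalizer_of_conj fun v hv => ?_
  obtain ⟨f, u, hu, he⟩ := hK (conj_mem_of_normalizer hg (hP v hv))
  convert hu using 1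
  refine Equiv.ext fun i => ?_
  obtain ⟨j, rfl⟩ := w.surjective i
  have h1 : (g (topMap (p := p) v (g⁻¹ (g (j, 0))))).1 = u (g (j, 0)).1 :=
    congrArg Prod.fst (Equiv.congr_fun he (g (j, 0)))
  rw [show g⁻¹ (g (j, 0)) = (j, 0) from g.symm_apply_apply _, topMap_apply, hw, hw] at h1
  simp [← h1]

theorem sep_wreathPerm (P : Subgroup (Perm (Fin m))) (a b : Fin m) (hab : a ≠ b) :
    ∃ k ∈ wreathPerm (p := p) P, (∀ x, k (a, x) = (a, x)) ∧ ∀ x, k (b, x) ≠ (b, x) :=
  ⟨baseMap (ind {b}), baseMap_mem_wreathPerm _ _, fun x => by simp [baseMap_apply, ind, hab],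
    fun x => by simp [baseMap_apply, ind]⟩

omit hp in
theorem wreathPerm_mono {P Q : Subgroup (Perm (Fin m))} (h : P ≤ Q) :
    wreathPerm (p := p) P ≤ wreathPerm Q := fun _ ⟨f, w, hw, e⟩ => ⟨f, w, h hw, e⟩

omit hp in
/-- Transport of a subgroup along an embedding whose complement has at most one point. -/
theorem exists_preimage_of_normalizes {α β : Type*} (emb : α ↪ β)
    (hsub : ∀ x y : β, x ∉ Set.range emb → y ∉ Set.range emb → x = y) {K : Subgroup (Perm α)}
    (hK : ∀ u, ∃ k ∈ K, k u ≠ u) {g : Perm β}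
    (hg : g ∈ Subgroup.normalizer ((K.map (Perm.viaEmbeddingHom emb) : Subgroup (Perm β)) : Set (Perm β))) :
    ∃ a : Perm α, Perm.viaEmbeddingHom emb a = g ∧ a ∈ Subgroup.normalizer (K : Set (Perm α)) := by
  have hout : ∀ y, y ∉ Set.range emb → g y = y := by
    intro y hy
    by_contra hne
    have hgy : g y ∈ Set.range emb := by
      by_contra h'
      exact hne (hsub _ _ h' hy)
    obtain ⟨u, hu⟩ := hgy
    obtain ⟨k, hk, hku⟩ := hK u
    obtain ⟨k', -, he⟩ :=
      (Subgroup.mem_normalizer_iff''.1 hg _).1 (Subgroup.mem_map_of_mem _ hk)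
    have h1 := Equiv.congr_fun he y
    rw [Perm.viaEmbeddingHom_apply, Perm.viaEmbedding_apply_of_notMem _ _ _ hy, Perm.mul_apply,
      Perm.mul_apply, Perm.eq_inv_iff_eq, ← hu, Perm.viaEmbeddingHom_apply,
      Perm.viaEmbedding_apply] at h1
    exact hku (emb.injective h1.symm)
  have hin : ∀ u, g (emb u) ∈ Set.range emb := fun u => by
    by_contra h'
    have h2 : g (emb u) = emb u := g.injective (hout _ h')
    exact h' ⟨u, h2.symm⟩
  choose a ha using hin
  have hinj : Function.Injective a := fun u v e =>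
    emb.injective (g.injective (by rw [← ha u, ← ha v, e]))
  have hsurj : Function.Surjective a := fun v => by
    obtain ⟨y, hy⟩ := g.surjective (emb v)
    by_cases h' : y ∈ Set.range emb
    · obtain ⟨u, rfl⟩ := h'
      exact ⟨u, emb.injective ((ha u).trans hy)⟩
    · exact absurd ⟨v, ((hout y h').symm.trans hy).symm⟩ h'
  have he : Perm.viaEmbeddingHom emb (Equiv.ofBijective a ⟨hinj, hsurj⟩) = g := by
    refine Equiv.ext fun y => ?_
    rw [Perm.viaEmbeddingHom_apply]
    by_cases h' : y ∈ Set.range emb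
    · obtain ⟨u, rfl⟩ := h'
      rw [Perm.viaEmbedding_apply]
      exact ha u
    · rw [Perm.viaEmbedding_apply_of_notMem _ _ _ h', hout y h']
  refine ⟨_, he, Subgroup.mem_normalizer_iff.2 fun x => ?_⟩
  have h3 := Subgroup.mem_normalizer_iff.1 hg (Perm.viaEmbeddingHom emb x)
  rw [← he, ← map_inv, ← map_mul, ← map_mul,
    Subgroup.mem_map_iff_mem (Perm.viaEmbeddingHom_injective emb),
    Subgroup.mem_map_iff_mem (Perm.viaEmbeddingHom_injective emb)] at h3
  exact h3

/-- A Sylow 2-subgroup of a symmetric group is its own normalizer. -/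
theorem exists_self_normalizing_two (n : ℕ) : ∃ W : Subgroup (Perm (Fin n)),
    Nat.card W = 2 ^ padicValNat 2 n.factorial ∧
      ∀ g ∈ Subgroup.normalizer (W : Set (Perm (Fin n))), g ∈ W := by
  induction n using Nat.strong_induction_on with
  | _ n ih =>
    rcases Nat.eq_zero_or_pos n with rfl | hn
    · exact ⟨⊥, by simp, fun g _ => Subgroup.mem_bot.2 (Subsingleton.elim _ _)⟩
    obtain ⟨W, hW, hWn⟩ := ih (n / 2) (Nat.div_lt_self hn one_lt_two)
    have hle : n / 2 * 2 ≤ n := Nat.div_mul_le_self n 2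
    obtain ⟨emb⟩ : Nonempty (Fin (n / 2) × ZMod 2 ↪ Fin n) :=
      Function.Embedding.nonempty_of_card_le (by simpa using hle)
    have hsub : ∀ x y : Fin n, x ∉ Set.range emb → y ∉ Set.range emb → x = y := by
      intro x y hx hy
      have hc : (Finset.univ.map emb)ᶜ.card ≤ 1 := by
        rw [Finset.card_compl, Finset.card_map, Finset.card_univ, Fintype.card_prod, ZMod.card,
          Fintype.card_fin, Fintype.card_fin]
        omega
      exact Finset.card_le_one.1 hc x (by simpa using fun a b h => hx ⟨(a, b), h⟩)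
        y (by simpa using fun a b h => hy ⟨(a, b), h⟩)
    refine ⟨(wreathPerm W).map (Perm.viaEmbeddingHom emb), ?_, fun g hg => ?_⟩
    · rw [Subgroup.card_map_of_injective (Perm.viaEmbeddingHom_injective emb), card_wreathPerm, hW,
        ← pow_add]
      congr 1
      conv_rhs => rw [← Nat.div_add_mod n 2,
        padicValNat_factorial_mul_add _ (Nat.mod_lt n two_pos), padicValNat_factorial_mul]
      rw [add_comm]
    obtain ⟨a, rfl, ha⟩ := exists_preimage_of_normalizes emb hsub (fun u =>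
      ⟨baseMap (fun _ => 1), baseMap_mem_wreathPerm _ _, by
        obtain ⟨i, x⟩ := u
        simp [baseMap_apply]⟩) hg
    obtain ⟨w, hw⟩ := exists_top fun i x y => blocks_preserved (wreathPerm_mono le_top)
      (fun a b hab => sep_wreathPerm W a b hab) ha i x y
    obtain ⟨f, rfl⟩ := eq_baseMap_mul_topMap_of_two hw
    exact Subgroup.mem_map_of_mem _ ⟨f, w, hWn w (top_mem_normalizer le_rfl
      (fun v hv => topMap_mem_wreathPerm hv) ha hw), rfl⟩

theorem normalizer_eq_of_isSylowTwo (P : Sylow 2 (Perm (Fin m))) {g : Perm (Fin m)}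
    (hg : g ∈ Subgroup.normalizer ((P : Subgroup (Perm (Fin m))) : Set (Perm (Fin m)))) :
    g ∈ (P : Subgroup (Perm (Fin m))) := by
  obtain ⟨W, hW, hWn⟩ := exists_self_normalizing_two m
  have hWc : Nat.card W = 2 ^ (Nat.card (Perm (Fin m))).factorization 2 := by
    rw [Nat.card_eq_fintype_card (α := Perm (Fin m)), Fintype.card_perm, Fintype.card_fin,
      Nat.factorization_def _ Nat.prime_two, hW]
  obtain ⟨c, hc⟩ := MulAction.exists_smul_eq (Perm (Fin m)) P (Sylow.ofCard W hWc)
  have hc' : ∀ x, x ∈ (P : Subgroup (Perm (Fin m))) ↔ c * x * c⁻¹ ∈ W := fun x => by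
    rw [← Sylow.coe_ofCard W hWc, ← hc, Sylow.coe_subgroup_smul,
      Subgroup.mem_pointwise_smul_iff_inv_smul_mem]
    simp [MulAut.smul_def, mul_assoc]
  rw [hc']
  refine hWn _ (mem_normalizer_of_conj fun y hy => ?_)
  have h1 : c⁻¹ * y * c ∈ (P : Subgroup (Perm (Fin m))) := by
    rw [hc']; simpa [mul_assoc] using hy
  have h2 := (hc' _).1 (conj_mem_of_normalizer hg h1)
  simpa [mul_assoc] using h2

/-! ### Diagonal maps -/

/-- Multiplication inside each block. -/
def diagMap (d : Fin m → (ZMod p)ˣ) : Perm (Fin m × ZMod p) :=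
  Equiv.prodCongrRight fun i => Units.mulLeft (d i)

theorem diagMap_apply (d : Fin m → (ZMod p)ˣ) (i : Fin m) (x : ZMod p) :
    diagMap d (i, x) = (i, (d i : ZMod p) * x) := rfl

theorem diagMap_mul (d e : Fin m → (ZMod p)ˣ) : diagMap (d * e) = diagMap d * diagMap e :=
  Equiv.ext fun ⟨i, x⟩ => by simp [diagMap_apply, mul_assoc]

theorem diagMap_one : diagMap (1 : Fin m → (ZMod p)ˣ) = 1 :=
  Equiv.ext fun ⟨i, x⟩ => by simp [diagMap_apply]

theorem diagMap_inv (d : Fin m → (ZMod p)ˣ) : diagMap d⁻¹ = (diagMap d)⁻¹ :=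
  eq_inv_of_mul_eq_one_left (by rw [← diagMap_mul, inv_mul_cancel, diagMap_one])

theorem topMap_conj_diagMap (w : Perm (Fin m)) (d : Fin m → (ZMod p)ˣ) :
    topMap w * diagMap d = diagMap (fun i => d (w⁻¹ i)) * topMap w :=
  Equiv.ext fun ⟨i, x⟩ => by simp [diagMap_apply, topMap_apply]

theorem diagMap_conj_baseMap (d : Fin m → (ZMod p)ˣ) (f : Fin m → ZMod p) :
    diagMap d * baseMap f = baseMap (fun i => (d i : ZMod p) * f i) * diagMap d :=
  Equiv.ext fun ⟨i, x⟩ => by simp [diagMap_apply, baseMap_apply, mul_add]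

omit hp in
theorem topMap_conj_baseMap (w : Perm (Fin m)) (f : Fin m → ZMod p) :
    topMap w * baseMap f = baseMap (fun i => f (w⁻¹ i)) * topMap w :=
  Equiv.ext fun ⟨i, x⟩ => by simp [baseMap_apply, topMap_apply]

end Cfsg.Agent.AltFusion
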