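import Cfsg.Agent.Lib.AltFusion.Base

/-
Fusion-closed subgroups of the even part of a wreath product `C_p ≀ P`.
Main definitions (namespace `Cfsg.Agent.AltFusion`): `embJ`, `shiftTop`.
Main result: `eq_of_closed`.
-/

set_option autoImplicit false

open Equiv Cfsg.Agent.SymSylowGen

namespace Cfsg.Agent.AltFusion

variable {m p : ℕ} [hp : Fact p.Prime]

/-- The first `p` blocks. -/
def embJ (hpm : p ≤ m) : ZMod p ↪ Fin m :=
  ⟨fun j => ⟨j.val, (ZMod.val_lt j).trans_le hpm⟩, fun _ _ h =>
    ZMod.val_injective p (Fin.ext_iff.1 h)⟩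

theorem mem_range_embJ (hpm : p ≤ m) (i : Fin m) : i ∈ Set.range (embJ hpm) ↔ (i : ℕ) < p :=
  ⟨fun ⟨_, h⟩ => h ▸ ZMod.val_lt _, fun h =>
    ⟨((i : ℕ) : ZMod p), Fin.ext (ZMod.val_natCast_of_lt h)⟩⟩

/-- The cycle permuting the first `p` blocks. -/
noncomputable def shiftTop (hpm : p ≤ m) : Perm (Fin m) :=
  Perm.viaEmbedding (Equiv.addRight 1) (embJ hpm)

theorem addRight_pow (a : ZMod p) (k : ℕ) : (Equiv.addRight a) ^ k = Equiv.addRight (k • a) := by
  induction k with
  | zero => rw [pow_zero, zero_nsmul]; ext x; simp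
  | succ k ih => rw [pow_succ, ih, succ_nsmul]; ext x; simp [add_assoc, add_comm, add_left_comm]

theorem shiftTop_pow (hpm : p ≤ m) : shiftTop hpm ^ p = 1 := by
  rw [shiftTop, ← Perm.viaEmbeddingHom_apply, ← map_pow, addRight_pow, nsmul_one, ZMod.natCast_self]
  convert map_one (Perm.viaEmbeddingHom (embJ hpm))
  ext x; simp

theorem exists_sylow_shiftTop (hpm : p ≤ m) :
    ∃ P : Sylow p (Perm (Fin m)), shiftTop hpm ∈ (P : Subgroup (Perm (Fin m))) := by
  obtain ⟨P, hP⟩ := IsPGroup.exists_le_sylow (G := Perm (Fin m)) (p := p)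
    (P := Subgroup.zpowers (shiftTop hpm)) (by
      rintro ⟨x, hx⟩
      obtain ⟨n, rfl⟩ := Subgroup.mem_zpowers_iff.1 hx
      refine ⟨1, Subtype.ext ?_⟩
      show (shiftTop hpm ^ n) ^ p ^ 1 = 1
      rw [pow_one, ← zpow_natCast, ← zpow_mul, mul_comm, zpow_mul, zpow_natCast, shiftTop_pow,
        one_zpow])
  exact ⟨P, hP (Subgroup.mem_zpowers _)⟩

theorem sign_addRight_one : Perm.sign (Equiv.addRight (1 : ZMod 2)) = -1 := by decide

/-- An indicator has an odd permutation centralizing it. -/
theorem exists_odd_comm (hm : 3 ≤ m) (A : Finset (Fin m)) :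
    ∃ c : Perm (Fin m × ZMod p), Perm.sign c = -1 ∧ Commute c (baseMap (ind A)) := by
  rcases hp.out.eq_two_or_odd' with h2 | h2
  · subst h2
    refine ⟨baseMap (Pi.single ⟨0, by omega⟩ 1), ?_, ?_⟩
    · rw [baseMap, Perm.sign_prodCongrRight, Finset.prod_eq_single (⟨0, by omega⟩ : Fin m)]
      · rw [Pi.single_eq_same]; exact sign_addRight_one
      · intro i _ hi; rw [Pi.single_eq_of_ne hi, Equiv.addRight_zero]; exact Perm.sign_refl
      · exact fun h => absurd (Finset.mem_univ _) h
    · rw [Commute, SemiconjBy, ← baseMap_add, ← baseMap_add, add_comm]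
  obtain ⟨a, b, hab, he⟩ := Fintype.exists_ne_map_eq_of_card_lt (fun i : Fin m => decide (i ∈ A))
    (by rw [Fintype.card_bool, Fintype.card_fin]; omega)
  refine ⟨topMap (swap a b), by rw [sign_topMap, Perm.sign_swap hab, h2.neg_one_pow], ?_⟩
  rw [Commute, SemiconjBy, topMap_conj_baseMap]
  congr 2
  funext i
  simp only [decide_eq_decide] at he
  simp only [ind, swap_inv]
  rcases eq_or_ne i a with rfl | hia
  · simp [he]
  rcases eq_or_ne i b with rfl | hib
  · simp [he]
  simp [swap_apply_of_ne_of_ne hia hib]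

theorem sign_ind_two (A : Finset (Fin m)) :
    Perm.sign (baseMap (ind A : Fin m → ZMod 2)) = (-1) ^ A.card := by
  rw [baseMap, Perm.sign_prodCongrRight, ← Finset.prod_const, ← Finset.prod_subset (A.subset_univ)]
  · refine Finset.prod_congr rfl fun i hi => ?_
    rw [ind, if_pos hi]; exact sign_addRight_one
  · intro i _ hi
    rw [ind, if_neg hi, Equiv.addRight_zero]; exact Perm.sign_refl

section

variable {P : Subgroup (Perm (Fin m))} {U : Subgroup (Perm (Fin m × ZMod p))}

/-- The closure hypothesis. -/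
def Closed (P : Subgroup (Perm (Fin m))) (U : Subgroup (Perm (Fin m × ZMod p))) : Prop :=
  ∀ x ∈ U, ∀ g ∈ alternatingGroup (Fin m × ZMod p), g * x * g⁻¹ ∈ evenWreath P → g * x * g⁻¹ ∈ U

theorem mem_of_card_support (hm : 3 ≤ m) (hU : U ≤ evenWreath P) (hc : Closed P U)
    {x y : Perm (Fin m × ZMod p)} (hx : x ∈ U) (hxp : x ^ p = 1) (hy : y ∈ evenWreath P)
    (hyp : y ^ p = 1) (h : x.support.card = y.support.card) : y ∈ U := by
  obtain ⟨j, hj⟩ := dvd_card_support (p := p) hxp
  have hjm : j ≤ (Finset.univ : Finset (Fin m)).card := by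
    have := Finset.card_le_univ x.support
    rw [hj, Fintype.card_prod, ZMod.card, Fintype.card_fin, mul_comm p] at this
    rw [Finset.card_univ, Fintype.card_fin]
    exact Nat.le_of_mul_le_mul_right this hp.out.pos
  obtain ⟨A, -, hA⟩ := Finset.exists_subset_card_eq hjm
  have hz : (baseMap (ind A : Fin m → ZMod p)).support.card = x.support.card := by
    rw [card_support_ind, hA, hj, mul_comm]
  obtain ⟨c, hcs, hcc⟩ := exists_odd_comm (p := p) hm A
  obtain ⟨g, hg⟩ := isConj_iff.1 (isConj_of_pow_eq_one hxp (baseMap_pow_prime _) hz.symm)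
  obtain ⟨g', hg'⟩ := isConj_iff.1 (isConj_of_pow_eq_one hyp (baseMap_pow_prime _) (hz.trans h).symm)
  have hy' : g'⁻¹ * baseMap (ind A) * g' = y := by rw [← hg']; group
  obtain ⟨e, hes, hec⟩ : ∃ e : Perm (Fin m × ZMod p),
      Perm.sign e = Perm.sign g' * Perm.sign g ∧ Commute e (baseMap (ind A)) := by
    rcases Int.units_eq_one_or (Perm.sign g' * Perm.sign g) with h' | h'
    · exact ⟨1, by rw [h', map_one], Commute.one_left _⟩
    · exact ⟨c, by rw [h', hcs], hcc⟩
  have he : (g'⁻¹ * e * g) * x * (g'⁻¹ * e * g)⁻¹ = y := by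
    calc (g'⁻¹ * e * g) * x * (g'⁻¹ * e * g)⁻¹
        = g'⁻¹ * (e * (g * x * g⁻¹) * e⁻¹) * g' := by group
      _ = y := by rw [hg, hec.eq, mul_inv_cancel_right, hy']
  have hs : g'⁻¹ * e * g ∈ alternatingGroup (Fin m × ZMod p) := mem_alt_of_sign (by
    rw [map_mul, map_mul, map_inv, hes, ← mul_assoc, inv_mul_cancel, one_mul, Int.units_mul_self])
  rw [← he]
  exact hc x hx _ hs (he.symm ▸ hy)

theorem baseMap_mem_evenWreath_of_support {x : Perm (Fin m × ZMod p)}
    (hx : x ∈ alternatingGroup (Fin m × ZMod p)) (hxp : x ^ p = 1) {f : Fin m → ZMod p}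
    (h : x.support.card = (baseMap f).support.card) : baseMap f ∈ evenWreath P := by
  refine ⟨baseMap_mem_wreathPerm _ _, mem_alt_of_sign ?_⟩
  obtain ⟨g, hg⟩ := isConj_iff.1 (isConj_of_pow_eq_one hxp (baseMap_pow_prime f) h)
  rw [← hg, map_mul, map_mul, map_inv, Perm.mem_alternatingGroup.1 hx, mul_one, mul_inv_cancel]

theorem baseMap_mem_of_card (hm : 3 ≤ m) (hU : U ≤ evenWreath P) (hc : Closed P U)
    {x : Perm (Fin m × ZMod p)} (hx : x ∈ U) (hxp : x ^ p = 1) {f : Fin m → ZMod p}
    (h : x.support.card = (baseMap f).support.card) : baseMap f ∈ U :=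
  mem_of_card_support hm hU hc hx hxp (baseMap_mem_evenWreath_of_support (hU hx).2 hxp h)
    (baseMap_pow_prime f) h

theorem indicators_mem_two {P : Subgroup (Perm (Fin m))} {U : Subgroup (Perm (Fin m × ZMod 2))}
    (hm : 3 ≤ m) (hU : U ≤ evenWreath P) (hc : Closed P U) {x : Perm (Fin m × ZMod 2)}
    (hx : x ∈ U) (hx2 : x ^ 2 = 1) (hx1 : x ≠ 1) (hlt : x.support.card < m * 2)
    (A : Finset (Fin m)) (hA : Even A.card) : baseMap (ind A : Fin m → ZMod 2) ∈ U := by
  obtain ⟨j, hj⟩ := dvd_card_support (p := 2) hx2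
  have hj0 : 1 ≤ j := by
    rcases Nat.eq_zero_or_pos j with rfl | h
    · exact absurd (Perm.support_eq_empty_iff.1 (Finset.card_eq_zero.1 hj)) hx1
    · exact h
  have hind : ∀ B : Finset (Fin m), B.card = j → baseMap (ind B : Fin m → ZMod 2) ∈ U := fun B hB =>
    baseMap_mem_of_card hm hU hc hx hx2 (by rw [card_support_ind, hB, hj, mul_comm])
  have hpair : ∀ a b : Fin m, a ≠ b → baseMap (ind {a, b} : Fin m → ZMod 2) ∈ U := by
    intro a b hab
    obtain ⟨B, hB1, hB2, hBc⟩ := Finset.exists_subsuperset_card_eq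
      (s := {a}) (t := Finset.univ.erase b) (n := j) (by simpa using hab) (by simpa using hj0)
      (by rw [Finset.card_erase_of_mem (Finset.mem_univ b), Finset.card_univ, Fintype.card_fin]
          omega)
    have ha : a ∈ B := hB1 (Finset.mem_singleton_self a)
    have hb : b ∉ B := fun h => (Finset.mem_erase.1 (hB2 h)).1 rfl
    have h1 := mul_mem (hind B hBc) (hind (insert b (B.erase a)) (by
      rw [Finset.card_insert_of_notMem (fun h => hb (Finset.mem_of_mem_erase h)),
        Finset.card_erase_of_mem ha, hBc]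
      omega))
    rw [← baseMap_add] at h1
    convert h1 using 2
    funext i
    simp only [ind, Pi.add_apply, Finset.mem_insert, Finset.mem_singleton, Finset.mem_erase]
    rcases eq_or_ne i a with rfl | hia
    · simp [ha, hab]
    rcases eq_or_ne i b with rfl | hib
    · simp [hb, hia]
    simp only [hia, hib, false_or, ne_eq, not_false_eq_true, true_and, if_false]
    split_ifs <;> decide
  induction A using Finset.strongInduction with
  | _ A ih =>
    rcases A.eq_empty_or_nonempty with rfl | ⟨a, ha⟩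
    · have : (ind ∅ : Fin m → ZMod 2) = 0 := funext fun i => by simp [ind]
      rw [this, baseMap_zero']
      exact one_mem U
    have h2 : (A.erase a).Nonempty := by
      rw [← Finset.card_pos, Finset.card_erase_of_mem ha]
      obtain ⟨k, hk⟩ := hA
      have := Finset.card_pos.2 ⟨a, ha⟩
      omega
    obtain ⟨b, hb⟩ := h2
    obtain ⟨hba, hbA⟩ := Finset.mem_erase.1 hb
    have h1 := mul_mem (hpair a b hba.symm) (ih ((A.erase a).erase b)
      ((Finset.erase_ssubset hb).trans (Finset.erase_ssubset ha)) (by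
        rw [Finset.card_erase_of_mem hb, Finset.card_erase_of_mem ha]
        obtain ⟨k, hk⟩ := hA
        exact ⟨k - 1, by omega⟩))
    rw [← baseMap_add] at h1
    convert h1 using 2
    funext i
    simp only [ind, Pi.add_apply, Finset.mem_insert, Finset.mem_singleton, Finset.mem_erase]
    rcases eq_or_ne i a with rfl | hia
    · simp [ha]
    rcases eq_or_ne i b with rfl | hib
    · simp [hbA]
    simp [hia, hib]

/-- The indicators lie in every nontrivial closed subgroup. -/
theorem indicators_mem (hm : 3 ≤ m) (hpm : p ≤ m) (hτ : shiftTop hpm ∈ P)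
    (hU : U ≤ evenWreath P) (hc : Closed P U) {x : Perm (Fin m × ZMod p)} (hx : x ∈ U)
    (hxp : x ^ p = 1) (hx1 : x ≠ 1) (A : Finset (Fin m))
    (hA : baseMap (ind A : Fin m → ZMod p) ∈ evenWreath P) :
    baseMap (ind A : Fin m → ZMod p) ∈ U := by
  obtain ⟨j, hj⟩ := dvd_card_support (p := p) hxp
  have hj0 : 1 ≤ j := by
    rcases Nat.eq_zero_or_pos j with rfl | h
    · exact absurd (Perm.support_eq_empty_iff.1 (Finset.card_eq_zero.1 hj)) hx1
    · exact h
  have hjm : j ≤ m := by
    have := Finset.card_le_univ x.support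
    rw [hj, Fintype.card_prod, ZMod.card, Fintype.card_fin, mul_comm p] at this
    exact Nat.le_of_mul_le_mul_right this hp.out.pos
  rcases hp.out.eq_two_or_odd' with h2 | h2
  · subst h2
    have hev : Even A.card := by
      have h := Perm.mem_alternatingGroup.1 hA.2
      rw [sign_ind_two] at h
      exact neg_one_pow_eq_one_iff_even (by decide) |>.1 h
    rcases lt_or_eq_of_le hjm with hlt | rfl
    · exact indicators_mem_two hm hU hc hx hxp hx1 (by rw [hj]; omega) A hev
    -- all points are moved: pass to an element moving four points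
    set J : Finset (Fin j) := Finset.univ.filter fun i => (i : ℕ) < 2
    set τ := shiftTop (p := 2) hpm
    have hJ : ∀ i, i ∈ J ↔ i ∈ Set.range (embJ (p := 2) hpm) := fun i => by
      rw [mem_range_embJ]; simp [J]
    have hmove : ∀ i, i ∈ J → τ i ≠ i := fun i hi => by
      obtain ⟨z, rfl⟩ := (hJ i).1 hi
      simp only [τ, shiftTop, Perm.viaEmbedding_apply, ne_eq, EmbeddingLike.apply_eq_iff_eq,
        Equiv.coe_addRight]
      intro h
      exact one_ne_zero (add_eq_left.1 h)
    have hfix : ∀ i, i ∉ J → τ i = i := fun i hi =>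
      Perm.viaEmbedding_apply_of_notMem _ _ _ (fun h => hi ((hJ i).2 h))
    have hmem : ∀ i, τ i ∈ J ↔ i ∈ J := fun i => by
      by_cases hi : i ∈ J
      · refine iff_of_true (by_contra fun h => hmove i hi ?_) hi
        exact τ.injective (hfix _ h)
      · rw [hfix i hi]
    have hττ : τ * τ = 1 := by rw [← pow_two]; exact shiftTop_pow _
    set y : Perm (Fin j × ZMod 2) := baseMap (ind Jᶜ) * topMap τ
    set z : Perm (Fin j × ZMod 2) := baseMap (ind J) * topMap τ
    have hy2 : y ^ 2 = 1 := by
      rw [pow_two, wreath_mul, hττ, topMap_one', mul_one, ← baseMap_zero']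
      congr 1
      funext i
      have h1 : τ⁻¹ = τ := inv_eq_of_mul_eq_one_left hττ
      simp only [ind, h1, Finset.mem_compl, hmem, Pi.zero_apply]
      split_ifs <;> decide
    have hy : y.support = Finset.univ := by
      ext ⟨i, a⟩
      simp only [Perm.mem_support, Finset.mem_univ, iff_true, y, baseTop_apply, ne_eq,
        Prod.ext_iff, not_and]
      intro h
      have hi : i ∉ J := fun hi => hmove i hi h
      simp [ind, h, hi]
    have hyw : y ∈ evenWreath P := by
      refine ⟨⟨_, _, hτ, rfl⟩, mem_alt_of_sign ?_⟩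
      obtain ⟨g, hg⟩ := isConj_iff.1 (isConj_of_pow_eq_one hxp hy2 (by
        rw [hy, hj, Finset.card_univ, Fintype.card_prod, Fintype.card_fin, ZMod.card, mul_comm]))
      rw [← hg, map_mul, map_mul, map_inv, Perm.mem_alternatingGroup.1 (hU hx).2, mul_one,
        mul_inv_cancel]
    have hyU : y ∈ U := mem_of_card_support hm hU hc hx hxp hyw hy2 (by
      rw [hy, hj, Finset.card_univ, Fintype.card_prod, Fintype.card_fin, ZMod.card, mul_comm])
    have huniv : baseMap (ind Finset.univ : Fin j → ZMod 2) ∈ U :=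
      baseMap_mem_of_card hm hU hc hx hxp (by
        rw [card_support_ind, Finset.card_univ, Fintype.card_fin, hj, mul_comm])
    have hzU : z ∈ U := by
      convert mul_mem huniv hyU using 1
      simp only [y, z]
      rw [← mul_assoc, ← baseMap_add]
      congr 2
      funext i
      simp only [ind, Pi.add_apply, Finset.mem_univ, if_true, Finset.mem_compl]
      split_ifs <;> decide
    have hz2 : z ^ 2 = 1 := by
      rw [pow_two, wreath_mul, hττ, topMap_one', mul_one, ← baseMap_zero']
      congr 1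
      funext i
      have h1 : τ⁻¹ = τ := inv_eq_of_mul_eq_one_left hττ
      simp only [ind, h1, hmem, Pi.zero_apply]
      split_ifs <;> decide
    have hz : z.support = J ×ˢ Finset.univ := by
      ext ⟨i, a⟩
      simp only [Perm.mem_support, Finset.mem_product, Finset.mem_univ, and_true, z, baseTop_apply,
        ne_eq, Prod.ext_iff, not_and]
      by_cases hi : i ∈ J
      · exact iff_of_true (fun h => absurd h (hmove i hi)) hi
      · refine iff_of_false ?_ hi
        simp [ind, hfix i hi, hi]
    have hJc : J.card = 2 := by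
      have : J = Finset.univ.map (embJ (p := 2) hpm) := by
        ext i; rw [hJ]; simp
      rw [this, Finset.card_map, Finset.card_univ, ZMod.card]
    refine indicators_mem_two hm hU hc hzU hz2 (fun h => ?_) ?_ A hev
    · rw [h, Perm.support_one] at hz
      simpa [hJc] using congrArg Finset.card hz
    · rw [hz, Finset.card_product, hJc, Finset.card_univ, ZMod.card]; omega
  -- odd primes: the base group lies in `U`
  have hne2 : p ≠ 2 := by rintro rfl; exact absurd h2 (by decide)
  have hsingle : ∀ i, baseMap (Pi.single i (1 : ZMod p)) ∈ U := by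
    intro i
    obtain ⟨B, hB1, -, hBc⟩ := Finset.exists_subsuperset_card_eq
      (s := {i}) (t := (Finset.univ : Finset (Fin m))) (n := j) (Finset.subset_univ _)
      (by simpa using hj0) (by rw [Finset.card_univ, Fintype.card_fin]; exact hjm)
    have hi : i ∈ B := hB1 (Finset.mem_singleton_self i)
    have htwo : (2 : ZMod p) ≠ 0 := by
      intro h
      have h' : ((2 : ℕ) : ZMod p) = 0 := by exact_mod_cast h
      exact hne2 ((Nat.prime_dvd_prime_iff_eq hp.out Nat.prime_two).1
        ((ZMod.natCast_eq_zero_iff _ _).1 h'))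
    have h1 : baseMap (ind B : Fin m → ZMod p) ∈ U :=
      baseMap_mem_of_card hm hU hc hx hxp (by rw [card_support_ind, hBc, hj, mul_comm])
    have h3 : baseMap (Function.update (ind B : Fin m → ZMod p) i 2) ∈ U := by
      refine baseMap_mem_of_card hm hU hc hx hxp ?_
      rw [card_support_baseMap, hj, mul_comm, ← hBc]
      congr 2
      ext k
      rcases eq_or_ne k i with rfl | hk
      · simp [htwo, hi]
      · simp [ind, hk]
    have h4 := mul_mem h3 (inv_mem h1)
    convert h4 using 1
    rw [eq_mul_inv_iff_mul_eq, ← baseMap_add]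
    congr 1
    funext k
    rcases eq_or_ne k i with rfl | hk
    · simp [ind, hi]; norm_num
    · simp [hk]
  have hsum : (ind A : Fin m → ZMod p) = ∑ i ∈ A, Pi.single i (1 : ZMod p) := by
    funext k
    simp [ind, Finset.sum_apply, Pi.single_apply]
  rw [hsum]
  clear hA hsum
  induction A using Finset.induction with
  | empty => rw [Finset.sum_empty, baseMap_zero']; exact one_mem U
  | insert a s ha ih => rw [Finset.sum_insert ha, baseMap_add]; exact mul_mem (hsingle a) ih

theorem genExp_evenWreath (Q : Sylow p (Perm (Fin m))) :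
    GenExp p (evenWreath (p := p) (Q : Subgroup (Perm (Fin m)))) := by
  obtain ⟨W, hW, hWg, -⟩ := exists_sylow p m
  have hWc : Nat.card W = p ^ (Nat.card (Perm (Fin m))).factorization p := by
    rw [Nat.card_eq_fintype_card (α := Perm (Fin m)), Fintype.card_perm, Fintype.card_fin,
      Nat.factorization_def _ hp.out, hW]
  obtain ⟨c, hc⟩ := MulAction.exists_smul_eq (Perm (Fin m)) (Sylow.ofCard W hWc) Q
  have hQ : GenExp p (Q : Subgroup (Perm (Fin m))) := by
    have h := hWg.map (MulAut.conj c).toMonoidHom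
    rw [← hc, Sylow.coe_subgroup_smul, Sylow.coe_ofCard]
    exact h
  rintro x ⟨hx, hxA⟩
  obtain ⟨f, w, hw, rfl⟩ := hx
  set T := Subgroup.closure {y | y ∈ evenWreath (p := p) (Q : Subgroup (Perm (Fin m))) ∧ y ^ p = 1}
  have htop : topMap w ∈ T ∧ Perm.sign (topMap (p := p) w) = 1 := by
    have h1 := Subgroup.mem_map_of_mem (topHom (p := p)) (hQ hw)
    rw [MonoidHom.map_closure] at h1
    have key : ∀ y ∈ topHom (p := p) '' {y | y ∈ (Q : Subgroup (Perm (Fin m))) ∧ y ^ p = 1},
        y ∈ evenWreath (p := p) (Q : Subgroup (Perm (Fin m))) ∧ y ^ p = 1 := by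
      rintro _ ⟨y, ⟨hy, hy'⟩, rfl⟩
      exact ⟨⟨topMap_mem_wreathPerm hy, mem_alt_of_sign (sign_topMap_of_pow hy')⟩,
        by rw [← map_pow, hy', map_one]⟩
    have h2 : topMap (p := p) w ∈ T := Subgroup.closure_mono key h1
    exact ⟨h2, Perm.mem_alternatingGroup.1
      (((Subgroup.closure_le _).2 fun y hy => hy.1 : T ≤ evenWreath _) h2).2⟩
  refine mul_mem (Subgroup.subset_closure ⟨⟨baseMap_mem_wreathPerm _ _, mem_alt_of_sign ?_⟩,
    baseMap_pow_prime f⟩) htop.1
  have h3 := Perm.mem_alternatingGroup.1 hxA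
  rwa [map_mul, htop.2, mul_one] at h3

/-- A nontrivial closed subgroup of the even wreath product is all of it. -/
theorem eq_of_closed (hm : 3 ≤ m) (hpm : p ≤ m) (Q : Sylow p (Perm (Fin m)))
    (hτ : shiftTop hpm ∈ (Q : Subgroup (Perm (Fin m))))
    (hU : U ≤ evenWreath (Q : Subgroup (Perm (Fin m)))) (hne : U ≠ ⊥)
    (hc : Closed (Q : Subgroup (Perm (Fin m))) U) : U = evenWreath (Q : Subgroup (Perm (Fin m))) := by
  refine le_antisymm hU ((genExp_evenWreath Q).trans ((Subgroup.closure_le _).2 ?_))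
  rintro y ⟨hy, hyp⟩
  have hUp : IsPGroup p U := (isPGroup_wreathPerm Q.isPGroup').to_le (hU.trans inf_le_left)
  have hnt : Nontrivial U := (Subgroup.nontrivial_iff_ne_bot U).2 hne
  obtain ⟨k, hk⟩ := IsPGroup.iff_card.1 hUp
  have hk0 : k ≠ 0 := by
    rintro rfl
    exact (Finite.one_lt_card (α := U)).ne' (by rw [hk, pow_zero])
  obtain ⟨⟨x, hx⟩, hox⟩ := exists_prime_orderOf_dvd_card' (G := U) p (hk ▸ dvd_pow_self p hk0)
  rw [Subgroup.orderOf_mk] at hox
  have hx1 : x ≠ 1 := fun h => hp.out.ne_one (by rw [← hox, h, orderOf_one])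
  have hxp : x ^ p = 1 := by
    have h := pow_orderOf_eq_one x
    rwa [hox] at h
  obtain ⟨j, hj⟩ := dvd_card_support (p := p) hyp
  have hjm : j ≤ (Finset.univ : Finset (Fin m)).card := by
    have := Finset.card_le_univ y.support
    rw [hj, Fintype.card_prod, ZMod.card, Fintype.card_fin, mul_comm p] at this
    rw [Finset.card_univ, Fintype.card_fin]
    exact Nat.le_of_mul_le_mul_right this hp.out.pos
  obtain ⟨A, -, hA⟩ := Finset.exists_subset_card_eq hjm
  have hcard : y.support.card = (baseMap (ind A : Fin m → ZMod p)).support.card := by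
    rw [card_support_ind, hA, hj, mul_comm]
  have hA' : baseMap (ind A : Fin m → ZMod p) ∈ U := indicators_mem hm hpm hτ hU hc hx hxp hx1 A
    (baseMap_mem_evenWreath_of_support hy.2 hyp hcard)
  exact mem_of_card_support hm hU hc hA' (baseMap_pow_prime _) hy hyp hcard.symm

end

end Cfsg.Agent.AltFusion
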