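import Cfsg.Agent.Lib.FusionNormal.Basic
import Cfsg.Agent.Lib.Fusion.Group

/-
Extension of automorphisms inside an invariant subsystem, relative to a subgroup of `S`.
Main results (namespace `Cfsg.Agent.AltFusion`): `mem_autGroup_of_centric` (an automorphism of
`T ≤ S` inducing a map of the subsystem on a centric `Q ≤ T` is in the subsystem),
`isSimple_of_autGroup_le`, `centric_of_centralizer_le`.
-/

set_option autoImplicit false

namespace Cfsg.Agent.AltFusion

open Cfsg Cfsg.FusionSystem Cfsg.Agent.Fusion Cfsg.Agent.FusionNormal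

variable {Ω : Type*} [Group Ω] {S : Subgroup Ω} {F E' : FusionSystem S} {p : ℕ}

theorem map_normalizer_mem_le [Finite S] [Fact p.Prime] (hS : IsPGroup p S) (hF : F.IsSaturated p)
    (hE : E'.IsInvariantIn F) (hEsat : E'.IsSaturated p) {Q T : Subgroup Ω} (hQ : F.IsCentric Q)
    (hT : T ≤ S) (hQT : Q ≤ T) {β : MulAut T} (hβ : β ∈ F.autGroup T)
    (hβQ : IsIso E' Q Q (autFn β)) :
    IsIso E' (normalizerIn T Q) (normalizerIn T Q) (autFn β) := by
  set N := normalizerIn T Q with hN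
  have hNT : N ≤ T := inf_le_left
  have hNS : N ≤ S := hNT.trans hT
  have hQN : Q ≤ N := le_normalizerIn hQT
  have hNN : N ≤ normalizerIn S Q := le_inf hNS inf_le_right
  have hb : IsMap F T (autFn β) := (mem_autGroup_iff hT).1 hβ
  have hQimg : img (autFn β) Q = Q := hβQ.2
  have hbN : ∀ g ∈ N, autFn β g ∈ N := fun g hg =>
    ⟨autFn_mem β (hNT hg), (map_normalizerIn hb hQT hQimg (hNT hg) (hNN hg)).2⟩
  have hcz : ∀ Q' : Subgroup Ω, E'.IsConj Q Q' → centralizerIn S Q' ≤ Q' := fun Q' h => by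
    refine hQ.2 Q' ?_
    obtain ⟨f, hf⟩ := isConj_iff.1 h
    exact isConj_iff.2 ⟨f, isIso_of_sub hE.1 hf⟩
  have hfc : E'.IsFullyCentralized Q := by
    refine ⟨hQ.1, fun Q' h => ?_⟩
    obtain ⟨f, hf⟩ := isConj_iff.1 (isConj_symm h)
    have hC : centralizerIn S Q' ≤ Q' := hcz Q' h
    rw [← hf.1.card_img hC]
    have := finite_of_le (S := S) (P := centralizerIn S Q) inf_le_left
    exact Subgroup.card_le_of_le (hf.1.img_le hC fun g hg =>
      map_centralizerIn hf.1 le_rfl hf.2 (hC hg) hg)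
  obtain ⟨ψ, hψ, heq⟩ := (isReceptive_iff.1 (receptive_of_fullyCentralized hS hEsat hfc)).2
    Q _ hβQ
  have hNle : N ≤ Nx S Q (autFn β) := fun g hg =>
    mem_Nx.2 ⟨hNN hg, autFn β g, hT (autFn_mem β (hNT hg)),
      fun x hx => hb.map_conj (hNT hg) (hQT hx)⟩
  have hψN : IsMap E' N ψ := hψ.mono hNle
  have hψQ : img ψ Q = Q := (img_congr heq).trans hQimg
  have hψmem : ∀ g ∈ N, ψ g ∈ N := by
    intro g hg
    have hψS : ψ g ∈ normalizerIn S Q := map_normalizerIn hψN hQN hψQ hg (hNN hg)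
    have hz : (autFn β g)⁻¹ * ψ g ∈ Q := by
      refine hQ.2 Q (isConj_refl F hQ.1) (mem_centralizerIn_of_conj
        (mul_mem (inv_mem (hNS (hbN g hg))) hψS.1) fun y hy => ?_)
      obtain ⟨x, hx, rfl⟩ := hβQ.exists_eq hy
      have hgx : g * x * g⁻¹ ∈ Q := normalizerIn_conj hg hx
      have h1 : ψ g * ψ x * (ψ g)⁻¹ = autFn β g * autFn β x * (autFn β g)⁻¹ := by
        rw [← hψN.map_conj hg (hQN hx), heq _ hgx, hb.map_conj (hNT hg) (hQT hx)]
      rw [heq x hx] at h1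
      calc (autFn β g)⁻¹ * ψ g * autFn β x * ((autFn β g)⁻¹ * ψ g)⁻¹
          = (autFn β g)⁻¹ * (ψ g * autFn β x * (ψ g)⁻¹) * autFn β g := by group
        _ = autFn β x := by rw [h1]; group
    refine ⟨?_, hψS.2⟩
    have := mul_mem (autFn_mem β (hNT hg)) (hQT hz)
    rwa [mul_inv_cancel_left] at this
  have hψiso : IsIso E' N N ψ :=
    ⟨hψN, eq_of_le_of_card hNS (hψN.img_le le_rfl hψmem) (le_of_eq (hψN.card_img le_rfl).symm)⟩
  obtain ⟨θ, hθ, hθψ, hψθ⟩ := hψiso.symm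
  have hbNiso : IsIso F N N (autFn β) :=
    ⟨hb.mono hNT, eq_of_le_of_card hNS ((hb.mono hNT).img_le le_rfl hbN)
      (le_of_eq ((hb.mono hNT).card_img le_rfl).symm)⟩
  obtain ⟨δ, hδ, hδe⟩ := exists_aut_of_isIso (hbNiso.trans (isIso_of_sub hE.1 hθ))
  have hfix : ∀ q (hq : q ∈ Q), δ ⟨q, hQN hq⟩ = ⟨q, hQN hq⟩ := by
    intro q hq
    refine Subtype.ext ?_
    rw [hδe]
    show θ (autFn β q) = q
    rw [← heq q hq]
    exact hθψ q (hQN hq)
  have hz : ∀ x : N, (((x⁻¹ * δ x : N)) : Ω) ∈ Q := by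
    intro x
    refine hQ.2 Q (isConj_refl F hQ.1) (mem_centralizerIn_of_conj (hNS (x⁻¹ * δ x).2) fun q hq => ?_)
    have hxq : (x : Ω) * q * (x : Ω)⁻¹ ∈ Q := normalizerIn_conj x.2 hq
    have h1 : δ (x * ⟨q, hQN hq⟩ * x⁻¹) = x * ⟨q, hQN hq⟩ * x⁻¹ := hfix _ hxq
    rw [map_mul, map_mul, map_inv, hfix q hq] at h1
    have h2 : x⁻¹ * δ x * ⟨q, hQN hq⟩ * (x⁻¹ * δ x)⁻¹ = (⟨q, hQN hq⟩ : N) := by
      calc x⁻¹ * δ x * ⟨q, hQN hq⟩ * (x⁻¹ * δ x)⁻¹
          = x⁻¹ * (δ x * ⟨q, hQN hq⟩ * (δ x)⁻¹) * x := by group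
        _ = ⟨q, hQN hq⟩ := by rw [h1]; group
    exact congrArg Subtype.val h2
  have hpow : ∀ (x : N) (n : ℕ), (δ ^ n) x = x * (x⁻¹ * δ x) ^ n := by
    intro x n
    induction n with
    | zero => simp
    | succ m ih =>
      have hzfix : δ (x⁻¹ * δ x) = x⁻¹ * δ x := hfix _ (hz x)
      rw [pow_succ', MulAut.mul_apply, ih, map_mul, map_pow, hzfix, pow_succ', ← mul_assoc]
      simp
  obtain ⟨m, hm⟩ := IsPGroup.iff_card.1 hS
  have hδ1 : δ ^ p ^ m = 1 := by
    refine MulEquiv.ext fun x => ?_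
    rw [hpow, MulAut.one_apply]
    have hzS : (⟨((x⁻¹ * δ x : N) : Ω), hNS (x⁻¹ * δ x).2⟩ : S) ^ p ^ m = 1 := by
      rw [← hm]
      exact pow_card_eq_one'
    have hzN : (x⁻¹ * δ x) ^ p ^ m = 1 := by
      refine Subtype.ext ?_
      rw [SubgroupClass.coe_pow]
      exact congrArg Subtype.val hzS
    rw [hzN, mul_one]
  have hδE := mem_of_pElement hS hF hE hNS hδ hδ1
  refine (((isIso_autFn hNS hδE).trans hψiso)).congr fun x hx => ?_
  rw [autFn_apply δ hx, hδe]
  exact hψθ _ (hbN x hx)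

/-- An automorphism of `T ≤ S` in `F` whose restriction to a centric subgroup lies in the invariant
subsystem lies in the subsystem. -/
theorem mem_autGroup_of_centric [Finite S] [Fact p.Prime] (hS : IsPGroup p S) (hF : F.IsSaturated p)
    (hE : E'.IsInvariantIn F) (hEsat : E'.IsSaturated p) {Q T : Subgroup Ω} (hQ : F.IsCentric Q)
    (hT : T ≤ S) (hQT : Q ≤ T) {β : MulAut T} (hβ : β ∈ F.autGroup T)
    (hβQ : IsIso E' Q Q (autFn β)) : β ∈ E'.autGroup T := by
  induction h : Nat.card T - Nat.card Q using Nat.strong_induction_on generalizing Q with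
  | _ n ih =>
    by_cases hQS : Q = T
    · subst hQS
      exact (mem_autGroup_iff hT).2 hβQ.1
    have hlt : Q < normalizerIn T Q := lt_normalizerIn hS hT (lt_of_le_of_ne hQT hQS)
    have hNT : normalizerIn T Q ≤ T := inf_le_left
    have hNS : normalizerIn T Q ≤ S := hNT.trans hT
    have hcent : F.IsCentric (normalizerIn T Q) := by
      refine ⟨hNS, fun N' hN' => ?_⟩
      obtain ⟨f, hf⟩ := isConj_iff.1 hN'
      have hQ' : F.IsConj Q (img f Q) := isConj_iff.2 ⟨f, hf.mono hlt.le⟩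
      have hsub : img f Q ≤ N' := hf.1.img_le hlt.le fun x hx => hf.mem (hlt.le hx)
      intro g hg
      refine hsub (hQ.2 _ hQ' ?_)
      obtain ⟨hgS, hgc⟩ := mem_centralizerIn.1 hg
      exact mem_centralizerIn.2 ⟨hgS, fun x hx => hgc x (hsub hx)⟩
    have hcard : Nat.card Q < Nat.card (normalizerIn T Q) := by
      have := finite_of_le hNS
      refine lt_of_le_of_ne (Subgroup.card_le_of_le hlt.le) fun he => hlt.ne ?_
      exact eq_of_le_of_card hNS hlt.le he.symm.le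
    have hle : Nat.card (normalizerIn T Q) ≤ Nat.card T := by
      have := finite_of_le hT
      exact Subgroup.card_le_of_le hNT
    exact ih (Nat.card T - Nat.card (normalizerIn T Q)) (by omega) hcent hNT
      (map_normalizer_mem_le hS hF hE hEsat hQ hT hQT hβ hβQ) rfl

/-- Simplicity from the absence of strongly closed subgroups and the fullness of `Aut(S)` in every
invariant subsystem over `S`. -/
theorem isSimple_of_autGroup_le (hF : F.IsSaturated p) (hS1 : S ≠ ⊥)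
    (hsc : ∀ U : Subgroup Ω, F.StronglyClosed U → U = ⊥ ∨ U = S)
    (hall : ∀ D : FusionSystem S, D.IsSaturated p → D.IsInvariantIn F → F.autGroup S ≤ D.autGroup S) :
    F.IsSimple p := by
  refine ⟨hF, hS1, fun U D hD => ?_⟩
  obtain ⟨⟨hDsat, -, hD⟩, -⟩ := hD
  rcases hsc U hD.2.1 with h | h
  · exact Or.inl h
  subst h
  have hle := hall D hDsat hD
  refine Or.inr ⟨rfl, fun P => Set.Subset.antisymm (hD.1 P) fun φ hφ => ?_⟩
  have hPU := (F.le_of_mem hφ).1
  obtain ⟨α, hα, f₀, hf₀, he⟩ := frattini_map hD hPU (isMap_toFn hφ)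
  refine mem_of_isMap ((hf₀.comp ((mem_autGroup_iff le_rfl).1 (hle hα)) fun x hx => hf₀.mem hx).congr
    fun x hx => (he x hx).symm) fun x => ?_
  exact (toFn_coe φ x).symm

/-- In the fusion system of a group a subgroup of `S` containing its centralizer is centric. -/
theorem centric_of_centralizer_le {G : Type*} [Group G] {S Q : Subgroup G} (hQS : Q ≤ S)
    (h : Subgroup.centralizer (Q : Set G) ≤ Q) : (groupFusionSystem S).IsCentric Q := by
  refine ⟨hQS, fun Q' hQ' => ?_⟩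
  obtain ⟨-, -, g, rfl⟩ := exists_conj_of_isConj hQ'
  intro c hc
  refine ⟨g⁻¹ * c * g, h (Subgroup.mem_centralizer_iff.2 fun q hq => ?_), by simp [mul_assoc]⟩
  have h1 := Subgroup.mem_centralizer_iff.1 hc.2 _ (Subgroup.mem_map_of_mem _ hq)
  simp only [MulEquiv.coe_toMonoidHom, MulAut.conj_apply] at h1
  calc q * (g⁻¹ * c * g) = g⁻¹ * (g * q * g⁻¹ * c) * g := by group
    _ = g⁻¹ * c * g * q := by rw [h1]; group

end Cfsg.Agent.AltFusion
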