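import Cfsg.Agent.Lib.AltFusion.Normalizer
import Cfsg.Agent.Lib.AltFusion.Extend

/-
The fusion systems of alternating groups of degree `p m` or `p m + 1`.
Main result (namespace `Cfsg.Agent.AltFusion`): `isSimple_of_embedding`.
-/

set_option autoImplicit false

open Equiv Cfsg Cfsg.FusionSystem Cfsg.Agent.Fusion Cfsg.Agent.SymSylowGen

namespace Cfsg.Agent.AltFusion

variable {G : Type*} [Group G] [Finite G] {m p : ℕ} [hp : Fact p.Prime]

/-- A subgroup of the permutations as a subgroup of the alternating group, mapped along `ι`. -/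
def push (ι : alternatingGroup (Fin m × ZMod p) →* G) (K : Subgroup (Perm (Fin m × ZMod p))) :
    Subgroup G :=
  (K.subgroupOf (alternatingGroup (Fin m × ZMod p))).map ι

variable (ι : alternatingGroup (Fin m × ZMod p) →* G)

theorem mem_push_iff (hι : Function.Injective ι) {K : Subgroup (Perm (Fin m × ZMod p))}
    {a : alternatingGroup (Fin m × ZMod p)} :
    ι a ∈ push ι K ↔ (a : Perm (Fin m × ZMod p)) ∈ K :=
  (Subgroup.mem_map_iff_mem hι).trans Subgroup.mem_subgroupOf

theorem push_mem_normalizer {K : Subgroup (Perm (Fin m × ZMod p))}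
    {a : alternatingGroup (Fin m × ZMod p)}
    (ha : (a : Perm (Fin m × ZMod p)) ∈ Subgroup.normalizer (K : Set (Perm (Fin m × ZMod p)))) :
    ι a ∈ Subgroup.normalizer ((push ι K : Subgroup G) : Set G) := by
  refine mem_normalizer_of_conj fun x hx => ?_
  obtain ⟨k, hk, rfl⟩ := hx
  exact ⟨a * k * a⁻¹, (conj_mem_of_normalizer ha hk : (a : Perm _) * (k : Perm _) * (a : Perm _)⁻¹ ∈ K), by simp⟩

theorem normalizer_of_push (hι : Function.Injective ι) {K : Subgroup (Perm (Fin m × ZMod p))}
    (hK : K ≤ alternatingGroup (Fin m × ZMod p)) {a : alternatingGroup (Fin m × ZMod p)}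
    (ha : ι a ∈ Subgroup.normalizer ((push ι K : Subgroup G) : Set G)) :
    (a : Perm (Fin m × ZMod p)) ∈ Subgroup.normalizer (K : Set (Perm (Fin m × ZMod p))) := by
  refine mem_normalizer_of_conj fun x hx => ?_
  have h1 := conj_mem_of_normalizer ha ((mem_push_iff ι hι (a := ⟨x, hK hx⟩)).2 hx)
  rw [← map_inv, ← map_mul, ← map_mul] at h1
  exact (mem_push_iff ι hι).1 h1

/-- The fusion system of `G` on the image of the even wreath product is simple, if all elements of
`G` normalizing the image of a subgroup without fixed points lie in the image. -/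
theorem isSimple_of_embedding (hm : 3 ≤ m) (hpm : p ≤ m) (Q : Sylow p (Perm (Fin m)))
    (hτ : shiftTop hpm ∈ (Q : Subgroup (Perm (Fin m)))) (hι : Function.Injective ι) (S : Sylow p G)
    (hS : (S : Subgroup G) = push ι (evenWreath (Q : Subgroup (Perm (Fin m)))))
    (hN : ∀ K : Subgroup (Perm (Fin m × ZMod p)), K ≤ alternatingGroup (Fin m × ZMod p) →
      (∀ u, ∃ k ∈ K, k u ≠ u) → ∀ g ∈ Subgroup.normalizer ((push ι K : Subgroup G) : Set G),
        g ∈ ι.range) :
    (groupFusionSystem (S : Subgroup G)).IsSimple p := by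
  set P : Subgroup (Perm (Fin m)) := (Q : Subgroup (Perm (Fin m)))
  set S0 := evenWreath (p := p) P
  have hS0A : S0 ≤ alternatingGroup (Fin m × ZMod p) := inf_le_right
  have hfree : ∀ u, ∃ k ∈ S0, k u ≠ u := by
    rintro ⟨i, x⟩
    obtain ⟨b, hb⟩ : (({i} : Finset (Fin m))ᶜ).Nonempty := by
      rw [← Finset.card_pos, Finset.card_compl, Finset.card_singleton, Fintype.card_fin]
      omega
    rw [Finset.mem_compl, Finset.mem_singleton] at hb
    rcases hp.out.eq_two_or_odd' with h2 | h2
    · subst h2
      exact ⟨baseMap (ind {i, b}), ⟨baseMap_mem_wreathPerm _ _, mem_alt_of_sign (by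
        rw [sign_ind_two, Finset.card_pair (Ne.symm hb)]; rfl)⟩, by simp [baseMap_apply, ind]⟩
    · exact ⟨baseMap (ind {i}), ⟨baseMap_mem_wreathPerm _ _,
        mem_alt_of_sign (sign_eq_one_of_pow h2 (baseMap_pow_prime _))⟩, by simp [baseMap_apply, ind]⟩
  have hnS : ∀ g ∈ Subgroup.normalizer ((S : Subgroup G) : Set G), ∃ a : alternatingGroup (Fin m × ZMod p),
      ι a = g ∧ (a : Perm (Fin m × ZMod p)) ∈ Subgroup.normalizer (S0 : Set (Perm (Fin m × ZMod p))) := by
    intro g hg
    rw [hS] at hg
    obtain ⟨a, rfl⟩ := hN S0 hS0A hfree g hg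
    exact ⟨a, rfl, normalizer_of_push ι hι hS0A hg⟩
  have hblocks : ∀ a : Perm (Fin m × ZMod p), a ∈ Subgroup.normalizer (S0 : Set (Perm (Fin m × ZMod p))) →
      ∀ i x y, (a (i, x)).1 = (a (i, y)).1 := by
    refine fun a ha => blocks_preserved ((inf_le_left).trans (wreathPerm_mono le_top)) (fun i j hij => ?_) ha
    obtain ⟨c, hc⟩ : (({i, j} : Finset (Fin m))ᶜ).Nonempty := by
      rw [← Finset.card_pos, Finset.card_compl, Finset.card_pair hij, Fintype.card_fin]
      omega
    simp only [Finset.mem_compl, Finset.mem_insert, Finset.mem_singleton, not_or] at hc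
    rcases hp.out.eq_two_or_odd' with h2 | h2
    · subst h2
      exact ⟨baseMap (ind {j, c}), ⟨baseMap_mem_wreathPerm _ _, mem_alt_of_sign (by
        rw [sign_ind_two, Finset.card_pair (Ne.symm hc.2)]; rfl)⟩,
        fun x => by simp [baseMap_apply, ind, hij, Ne.symm hc.1],
        fun x => by simp [baseMap_apply, ind]⟩
    · exact ⟨baseMap (ind {j}), ⟨baseMap_mem_wreathPerm _ _,
        mem_alt_of_sign (sign_eq_one_of_pow h2 (baseMap_pow_prime _))⟩,
        fun x => by simp [baseMap_apply, ind, hij],
        fun x => by simp [baseMap_apply, ind]⟩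
  have hS1 : (S : Subgroup G) ≠ ⊥ := by
    rw [hS]
    intro hb
    obtain ⟨k, hk, hku⟩ := hfree (⟨0, by omega⟩, 0)
    have h1 := (mem_push_iff ι hι (a := ⟨k, hS0A hk⟩)).2 hk
    rw [hb, Subgroup.mem_bot, ← map_one ι] at h1
    have h2 : k = 1 := congrArg Subtype.val (hι h1)
    exact hku (by rw [h2, Perm.one_apply])
  refine isSimple_of_autGroup_le (isSaturated_group S) hS1 ?_ ?_
  · -- strongly closed subgroups
    intro T hT
    rcases eq_or_ne T ⊥ with hb | hb
    · exact .inl hb
    refine .inr ?_
    set U : Subgroup (Perm (Fin m × ZMod p)) := (T.comap ι).map (Subgroup.subtype _) with hUdef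
    have hTle : ∀ y ∈ T, ∃ a : alternatingGroup (Fin m × ZMod p), ι a = y ∧ (a : Perm (Fin m × ZMod p)) ∈ S0 := by
      intro y hy
      have := hT.1 hy
      rw [hS] at this
      obtain ⟨a, ha, rfl⟩ := this
      exact ⟨a, rfl, ha⟩
    have hUS : U ≤ S0 := by
      rintro _ ⟨a, ha, rfl⟩
      obtain ⟨b, hb, hb'⟩ := hTle _ ha
      rwa [← hι hb]
    have hUne : U ≠ ⊥ := by
      obtain ⟨⟨y, hy⟩, hy1⟩ := Subgroup.ne_bot_iff_exists_ne_one.1 hb
      obtain ⟨a, rfl, -⟩ := hTle y hy
      intro h
      have : (a : Perm (Fin m × ZMod p)) ∈ U := Subgroup.mem_map_of_mem _ hy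
      rw [h, Subgroup.mem_bot] at this
      exact hy1 (Subtype.ext (show ι a = 1 by rw [show a = 1 from Subtype.ext this, map_one]))
    have hc : Closed P U := by
      rintro _ ⟨a, ha, rfl⟩ g hg hgS
      refine ⟨⟨g, hg⟩ * a * ⟨g, hg⟩⁻¹, ?_, rfl⟩
      show ι _ ∈ T
      have hmem : ι (⟨g, hg⟩ * a * ⟨g, hg⟩⁻¹) ∈ (S : Subgroup G) := by
        rw [hS, mem_push_iff ι hι]
        exact hgS
      rw [map_mul, map_mul, map_inv] at hmem ⊢
      set x := ι a
      set h := ι ⟨g, hg⟩
      have hx : x ∈ T := ha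
      obtain ⟨ψ, hψ, e⟩ := (isMap_group_iff (S := (S : Subgroup G)) (P := Subgroup.zpowers x)
        (f := fun y => h * y * h⁻¹)).2 ⟨(Subgroup.zpowers_le.2 hx).trans hT.1, h, fun y hy => ⟨
          (Subgroup.zpowers_le.2 (show x ∈ (S : Subgroup G).comap (MulAut.conj h).toMonoidHom from hmem)) hy,
          rfl⟩⟩
      have := hT.2 _ (Subgroup.zpowers_le.2 hx) ψ hψ ⟨x, Subgroup.mem_zpowers x⟩
      rwa [e x (Subgroup.mem_zpowers x)] at this
    have hUeq : U = S0 := eq_of_closed hm hpm Q hτ hUS hUne hc
    refine le_antisymm hT.1 fun y hy => ?_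
    rw [hS] at hy
    obtain ⟨a, ha, rfl⟩ := hy
    have ha' : (a : Perm (Fin m × ZMod p)) ∈ U := hUeq.symm ▸ ha
    obtain ⟨b, hb', he⟩ := ha'
    rwa [← Subtype.ext he]
  · -- the automorphisms of `S`
    intro D hDsat hD β hβ
    have hβF := hβ
    rw [autGroup_group le_rfl, ← range_normConj] at hβ
    obtain ⟨g, rfl⟩ := hβ
    obtain ⟨a, hag, haN⟩ := hnS g.1 g.2.2
    obtain ⟨w, hw⟩ := exists_top (hblocks _ haN)
    rcases hp.out.eq_two_or_odd' with h2 | h2
    · subst h2
      obtain ⟨f, hf⟩ := eq_baseMap_mul_topMap_of_two hw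
      have hwP : w ∈ P := normalizer_eq_of_isSylowTwo Q (top_mem_normalizer inf_le_left
        (fun v hv => topMap_mem_evenWreath Q.isPGroup' hv) haN hw)
      have hgS : (g : G) ∈ (S : Subgroup G) := by
        rw [← hag, hS, mem_push_iff ι hι]
        exact ⟨hf ▸ ⟨f, w, hwP, rfl⟩, a.2⟩
      refine autInducedBy_le_autGroup D le_rfl le_rfl (mem_autInducedBy_iff.2 ⟨g, hgS, fun x => ?_⟩)
      rw [normConj_apply]
    have hne2 : p ≠ 2 := by rintro rfl; exact absurd h2 (by decide)
    have hwA := wreathPerm_le_alt (p := p) hne2 Q.isPGroup'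
    have hbaseS : base ≤ S0 := fun x hx => by
      obtain ⟨f, rfl⟩ := mem_base.1 hx
      exact ⟨baseMap_mem_wreathPerm _ _, hwA (baseMap_mem_wreathPerm _ _)⟩
    have hplaneS : planeGroup hpm ≤ S0 := fun x hx => ⟨planeGroup_le hpm hτ hx, hwA (planeGroup_le hpm hτ hx)⟩
    set B := push ι (base : Subgroup (Perm (Fin m × ZMod p))) with hBdef
    have hBS : B ≤ (S : Subgroup G) := hS ▸ Subgroup.map_mono (fun x hx => hbaseS hx)
    have hQ2S : push ι (planeGroup hpm) ≤ (S : Subgroup G) :=
      hS ▸ Subgroup.map_mono (fun x hx => hplaneS hx)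
    have hbfree : ∀ u, ∃ k ∈ (base : Subgroup (Perm (Fin m × ZMod p))), k u ≠ u := fun ⟨i, x⟩ =>
      ⟨_, baseMap_mem_base (ind {i}), by simp [baseMap_apply, ind]⟩
    have hcentB : (groupFusionSystem (S : Subgroup G)).IsCentric B := by
      refine centric_of_centralizer_le hBS fun c hc => ?_
      obtain ⟨c', rfl⟩ := hN base (hbaseS.trans hS0A) hbfree c
        (Subgroup.centralizer_le_normalizer _ hc)
      rw [hBdef, mem_push_iff ι hι]
      refine mem_base_of_commute fun x hx => ?_
      have h1 := Subgroup.mem_centralizer_iff.1 hc (ι ⟨x, hS0A (hbaseS hx)⟩)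
        ((mem_push_iff ι hι).2 hx)
      rw [← map_mul, ← map_mul] at h1
      exact (congrArg Subtype.val (hι h1)).symm
    have hcentQ : (groupFusionSystem (S : Subgroup G)).IsCentric (push ι (planeGroup hpm)) := by
      refine centric_of_centralizer_le hQ2S fun c hc => ?_
      obtain ⟨c', rfl⟩ := hN (planeGroup hpm) (hplaneS.trans hS0A) (fun ⟨i, x⟩ => by
        by_cases hi : (i : ℕ) < p
        · refine ⟨_, Subgroup.mem_sup_left (Subgroup.mem_map_of_mem _
            (⟨(0, 1), rfl⟩ : Equiv.addRight ((0, 1) : ZMod p × ZMod p) ∈ translations)), ?_⟩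
          simp [planeHom_trans_snd, baseMap_apply, hi]
        · refine ⟨baseMap (Pi.single i 1), Subgroup.mem_sup_right
            ⟨Pi.single i 1, fun k hk => Pi.single_eq_of_ne (show k ≠ i from fun e => hi (e ▸ hk)) _, rfl⟩, ?_⟩
          rw [baseMap_single_apply]
          simp) c (Subgroup.centralizer_le_normalizer _ hc)
      rw [mem_push_iff ι hι]
      refine mem_planeGroup_of_commute hpm fun x hx => ?_
      have h1 := Subgroup.mem_centralizer_iff.1 hc (ι ⟨x, hS0A (hplaneS hx)⟩)
        ((mem_push_iff ι hι).2 hx)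
      rw [← map_mul, ← map_mul] at h1
      exact (congrArg Subtype.val (hι h1)).symm
    set X := Subgroup.map (normalizerIn ⊤ B).subtype ((D.autGroup B).comap (normConj ⊤ B))
    set M := (X.comap ι).map (alternatingGroup (Fin m × ZMod p)).subtype
    have hXmem : ∀ h (hh : h ∈ normalizerIn ⊤ B), normConj ⊤ B ⟨h, hh⟩ ∈ D.autGroup B → h ∈ X :=
      fun h hh h1 => ⟨⟨h, hh⟩, h1, rfl⟩
    have hnB : ∀ (u : Perm (Fin m × ZMod p)) (hu : u ∈ alternatingGroup (Fin m × ZMod p)),
        u ∈ Subgroup.normalizer ((base : Subgroup (Perm (Fin m × ZMod p))) : Set (Perm (Fin m × ZMod p))) →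
        ι ⟨u, hu⟩ ∈ normalizerIn ⊤ B := fun u hu hun => ⟨trivial, push_mem_normalizer ι (a := ⟨u, hu⟩) hun⟩
    have hnF : ∀ h : normalizerIn ⊤ B, normConj ⊤ B h ∈ (groupFusionSystem (S : Subgroup G)).autGroup B :=
      fun h => by rw [autGroup_group hBS, ← range_normConj]; exact ⟨h, rfl⟩
    have haNB : (a : Perm (Fin m × ZMod p)) ∈
        Subgroup.normalizer ((base : Subgroup (Perm (Fin m × ZMod p))) : Set (Perm (Fin m × ZMod p))) := by
      refine mem_normalizer_of_conj fun x hx => ?_
      obtain ⟨f, u, -, he⟩ := inf_le_left (a := wreathPerm P)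
        (b := alternatingGroup (Fin m × ZMod p)) (conj_mem_of_normalizer haN (hbaseS hx))
      obtain ⟨f', rfl⟩ := mem_base.1 hx
      have hu1 : u = 1 := Equiv.ext fun i => by
        obtain ⟨j, rfl⟩ := w.surjective i
        have h1 := congrArg Prod.fst (Equiv.congr_fun he ((a : Perm _) (j, 0)))
        simp only [Perm.mul_apply] at h1
        rw [show (a : Perm (Fin m × ZMod p))⁻¹ ((a : Perm _) (j, 0)) = (j, 0) from
          Equiv.symm_apply_apply (a : Perm (Fin m × ZMod p)) _, baseMap_apply, hw] at h1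
        rw [Perm.one_apply]
        exact (h1.trans (by
          show _ = u (w j)
          rw [← hw j 0]
          rfl)).symm
      rw [he, hu1, topMap_one', mul_one]
      exact baseMap_mem_base f
    have haM : (a : Perm (Fin m × ZMod p)) ∈ M := by
      refine mem_of_normalizes_base hne2 hm hpm M (fun x hx => ?_) (fun u hu hun hup => ?_)
        (fun u hu hun x hx => ?_) (fun l => ?_) a.2 haNB
      · obtain ⟨b, -, rfl⟩ := hx
        exact b.2
      · refine ⟨⟨u, hu⟩, hXmem _ (hnB u hu hun) ?_, rfl⟩
        refine FusionNormal.mem_of_pElement S.isPGroup' (isSaturated_group S) hD hBS (hnF _) (k := 1) ?_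
        rw [pow_one, ← map_pow]
        convert map_one (normConj ⊤ B)
        exact Subtype.ext (by
          rw [Subgroup.coe_pow, ← map_pow, show (⟨u, hu⟩ : alternatingGroup (Fin m × ZMod p)) ^ p = 1 from
            Subtype.ext hup, map_one]
          rfl)
      · obtain ⟨b, ⟨k, hk, hkb⟩, rfl⟩ := hx
        refine ⟨⟨u, hu⟩ * b * ⟨u, hu⟩⁻¹, ?_, rfl⟩
        show ι _ ∈ X
        refine ⟨⟨_, hnB u hu hun⟩ * k * ⟨_, hnB u hu hun⟩⁻¹, ?_, ?_⟩
        · show normConj ⊤ B _ ∈ D.autGroup B
          rw [map_mul, map_mul, map_inv]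
          exact FusionNormal.conj_mem_autGroup hD hBS (hnF _) hk
        · show ι ⟨u, hu⟩ * (k : G) * (ι ⟨u, hu⟩)⁻¹ = _
          rw [map_mul, map_mul, map_inv, show (k : G) = ι b from hkb]
      · -- the torus
        have htA : torusElem hpm l ∈ alternatingGroup (Fin m × ZMod p) :=
          ((Subgroup.closure_le _).2 fun x hx => hx.1) (torusElem_mem_closure hne2 hpm l)
        refine ⟨⟨torusElem hpm l, htA⟩, hXmem _ (hnB _ htA (torusElem_mem_normalizer_base hpm l)) ?_, rfl⟩
        set t := ι ⟨torusElem hpm l, htA⟩ with htdef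
        set T := push ι (planeGroup hpm) ⊔ B with hTdef
        have hTS : T ≤ (S : Subgroup G) := sup_le hQ2S hBS
        have htQ : t ∈ Subgroup.normalizer ((push ι (planeGroup hpm) : Subgroup G) : Set G) :=
          push_mem_normalizer ι (a := ⟨_, htA⟩) (torusElem_mem_normalizer_plane hpm l)
        have htB : t ∈ Subgroup.normalizer ((B : Subgroup G) : Set G) :=
          push_mem_normalizer ι (a := ⟨_, htA⟩) (torusElem_mem_normalizer_base hpm l)
        have htT : t ∈ normalizerIn ⊤ T := by
          refine ⟨trivial, mem_normalizer_of_conj fun x hx => ?_⟩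
          have hle : T ≤ T.comap (MulAut.conj t).toMonoidHom :=
            sup_le (fun y hy => Subgroup.mem_sup_left (conj_mem_of_normalizer htQ hy))
              (fun y hy => Subgroup.mem_sup_right (conj_mem_of_normalizer htB hy))
          exact hle hx
        have hcl : t ∈ Subgroup.closure {h : G | h ∈ Subgroup.normalizer
            ((push ι (planeGroup hpm) : Subgroup G) : Set G) ∧ h ^ p = 1} := by
          have key : ∀ x ∈ Subgroup.closure {g : Perm (Fin m × ZMod p) |
              g ∈ alternatingGroup (Fin m × ZMod p) ∧ g ^ p = 1 ∧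
              g ∈ Subgroup.normalizer ((planeGroup hpm : Subgroup (Perm (Fin m × ZMod p))) : Set (Perm (Fin m × ZMod p)))},
              ∀ hx : x ∈ alternatingGroup (Fin m × ZMod p), ι ⟨x, hx⟩ ∈ Subgroup.closure {h : G |
                h ∈ Subgroup.normalizer ((push ι (planeGroup hpm) : Subgroup G) : Set G) ∧ h ^ p = 1} := by
            intro x hx
            induction hx using Subgroup.closure_induction with
            | mem y hy =>
              intro hyA
              refine Subgroup.subset_closure ⟨push_mem_normalizer ι (a := ⟨y, hyA⟩) hy.2.2, ?_⟩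
              rw [← map_pow, show (⟨y, hyA⟩ : alternatingGroup (Fin m × ZMod p)) ^ p = 1 from
                Subtype.ext hy.2.1, map_one]
            | one => intro h1; rw [show (⟨1, h1⟩ : alternatingGroup (Fin m × ZMod p)) = 1 from rfl, map_one]; exact one_mem _
            | mul y z hy hz ihy ihz =>
              intro h1
              have hyA := ((Subgroup.closure_le _).2 fun x hx => hx.1) hy
              have hzA := ((Subgroup.closure_le _).2 fun x hx => hx.1) hz
              rw [show (⟨y * z, h1⟩ : alternatingGroup (Fin m × ZMod p)) = ⟨y, hyA⟩ * ⟨z, hzA⟩ from rfl,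
                map_mul]
              exact mul_mem (ihy hyA) (ihz hzA)
            | inv y hy ihy =>
              intro h1
              have hyA := ((Subgroup.closure_le _).2 fun x hx => hx.1) hy
              rw [show (⟨y⁻¹, h1⟩ : alternatingGroup (Fin m × ZMod p)) = ⟨y, hyA⟩⁻¹ from rfl, map_inv]
              exact inv_mem (ihy hyA)
          exact key _ (torusElem_mem_closure hne2 hpm l) htA
        have hQD : normConj ⊤ (push ι (planeGroup hpm)) ⟨t, trivial, htQ⟩ ∈
            D.autGroup (push ι (planeGroup hpm)) := by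
          have hsub : ∀ h ∈ Subgroup.closure {h : G | h ∈ Subgroup.normalizer
              ((push ι (planeGroup hpm) : Subgroup G) : Set G) ∧ h ^ p = 1},
              ∃ hh : h ∈ normalizerIn ⊤ (push ι (planeGroup hpm)),
                normConj ⊤ (push ι (planeGroup hpm)) ⟨h, hh⟩ ∈ D.autGroup (push ι (planeGroup hpm)) := by
            intro h hh
            have hle : Subgroup.closure {h : G | h ∈ Subgroup.normalizer
                ((push ι (planeGroup hpm) : Subgroup G) : Set G) ∧ h ^ p = 1} ≤
                ((D.autGroup (push ι (planeGroup hpm))).comap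
                  (normConj ⊤ (push ι (planeGroup hpm)))).map
                  (normalizerIn ⊤ (push ι (planeGroup hpm))).subtype := by
              rw [Subgroup.closure_le]
              rintro y ⟨hyN, hyp⟩
              refine ⟨⟨y, trivial, hyN⟩, ?_, rfl⟩
              refine FusionNormal.mem_of_pElement S.isPGroup' (isSaturated_group S) hD hQ2S
                (by rw [autGroup_group hQ2S, ← range_normConj]; exact ⟨_, rfl⟩) (k := 1) ?_
              rw [pow_one, ← map_pow]
              convert map_one (normConj ⊤ (push ι (planeGroup hpm)))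
              exact Subtype.ext hyp
            obtain ⟨⟨h', hh'⟩, hmem, rfl⟩ := hle hh
            exact ⟨hh', hmem⟩
          obtain ⟨hh, h1⟩ := hsub t hcl
          exact h1
        have hTD : normConj ⊤ T ⟨t, htT⟩ ∈ D.autGroup T := by
          refine mem_autGroup_of_centric S.isPGroup' (isSaturated_group S) hD hDsat hcentQ hTS le_sup_left
            (by rw [autGroup_group hTS, ← range_normConj]; exact ⟨_, rfl⟩) ?_
          refine (isIso_autFn hQ2S hQD).congr fun x hx => ?_
          rw [autFn_apply _ hx, autFn_apply _ (le_sup_left (b := B) hx : x ∈ T), normConj_apply,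
            normConj_apply]
        refine (mem_autGroup_iff hBS).2 ((((mem_autGroup_iff hTS).1 hTD).mono le_sup_right).congr
          fun x hx => ?_)
        rw [autFn_apply _ hx, autFn_apply _ (le_sup_right (a := push ι (planeGroup hpm)) hx : x ∈ T),
          normConj_apply, normConj_apply]
    obtain ⟨a', ⟨k, hk, hka⟩, he⟩ := haM
    have hka' : (k : G) = g := by rw [← hag, ← Subtype.ext he]; exact hka
    refine FusionNormal.mem_autGroup_top S.isPGroup' (isSaturated_group S) hD hDsat hcentB hβF ?_
    refine (isIso_autFn hBS hk).congr fun x hx => ?_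
    rw [autFn_apply _ hx, autFn_apply _ (hBS hx), normConj_apply, normConj_apply, hka']

end Cfsg.Agent.AltFusion
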