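import Cfsg.Agent.Lib.AltFusion.Closed
import Mathlib.GroupTheory.SpecificGroups.Alternating.Simple

/-
The even normalizer of the base group of `C_p ≀ S_m` for odd `p`.
Main definitions (namespace `Cfsg.Agent.AltFusion`): `planeHom`, `translations`, `planeGroup`,
`torusElem`.
Main results: `torusElem_mem_closure`, `mem_of_normalizes_base`.
-/

set_option autoImplicit false

open Equiv Cfsg.Agent.SymSylowGen

namespace Cfsg.Agent.AltFusion

variable {m p : ℕ} [hp : Fact p.Prime]

theorem baseMap_single_apply (i : Fin m) (a : ZMod p) (x : ZMod p) :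
    baseMap (Pi.single i a) (i, x) = (i, x + a) := by rw [baseMap_apply, Pi.single_eq_same]

theorem baseMap_single_apply_ne {i k : Fin m} (h : k ≠ i) (a : ZMod p) (x : ZMod p) :
    baseMap (Pi.single i a) (k, x) = (k, x) := by
  rw [baseMap_apply, Pi.single_eq_of_ne h, add_zero]

theorem exists_normal_form {g : Perm (Fin m × ZMod p)}
    (hg : g ∈ Subgroup.normalizer ((base : Subgroup (Perm (Fin m × ZMod p))) : Set (Perm (Fin m × ZMod p)))) :
    ∃ c d w, g = baseMap c * topMap w * diagMap d := by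
  obtain ⟨w, hw⟩ := exists_top fun i x y => blocks_preserved (K := base)
    (fun k hk => by obtain ⟨f, rfl⟩ := mem_base.1 hk; exact baseMap_mem_wreathPerm _ _)
    (fun a b hab => ⟨baseMap (Pi.single b 1), baseMap_mem_base _,
      fun x => baseMap_single_apply_ne hab _ x, fun x h => by
        rw [baseMap_single_apply, Prod.ext_iff] at h
        exact one_ne_zero (add_eq_left.1 h.2)⟩) hg i x y
  choose f hf using fun i => mem_base.1 (conj_mem_of_normalizer hg
    (baseMap_mem_base (Pi.single i (1 : ZMod p))))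
  have hstep : ∀ i x, g (i, x + 1) = (w i, (g (i, x)).2 + f i (w i)) := by
    intro i x
    have h := Equiv.congr_fun (hf i) (g (i, x))
    simp only [Perm.mul_apply] at h
    rw [show g⁻¹ (g (i, x)) = (i, x) from g.symm_apply_apply _, baseMap_single_apply] at h
    rw [← h, show g (i, x) = (w i, (g (i, x)).2) from Prod.ext (hw i x) rfl, baseMap_apply]
  have hval : ∀ i (x : ℕ), g (i, (x : ZMod p)) = (w i, (g (i, 0)).2 + (x : ZMod p) * f i (w i)) := by
    intro i x
    induction x with
    | zero => rw [Nat.cast_zero, zero_mul, add_zero]; exact Prod.ext (hw i 0) rfl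
    | succ k ih => rw [Nat.cast_succ, hstep, ih, add_mul, one_mul, add_assoc]
  have hall : ∀ i (x : ZMod p), g (i, x) = (w i, (g (i, 0)).2 + x * f i (w i)) := fun i x => by
    simpa [ZMod.natCast_zmod_val] using hval i x.val
  have hne : ∀ i, f i (w i) ≠ 0 := by
    intro i h
    have h1 : g (i, 1) = g (i, 0) := by
      rw [hall i 1, h, mul_zero, add_zero]
      exact Prod.ext (hw i 0).symm rfl
    exact one_ne_zero (congrArg Prod.snd (g.injective h1))
  refine ⟨fun k => (g (w⁻¹ k, 0)).2, fun i => Units.mk0 _ (hne i), w, Equiv.ext fun ⟨i, x⟩ => ?_⟩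
  rw [hall]
  show _ = (w i, ((Units.mk0 _ (hne i) : (ZMod p)ˣ) : ZMod p) * x + (g (w⁻¹ (w i), 0)).2)
  rw [show w⁻¹ (w i) = i from w.symm_apply_apply i, Units.val_mk0, mul_comm, add_comm]

theorem diagMap_mem_normalizer (d : Fin m → (ZMod p)ˣ) :
    diagMap d ∈ Subgroup.normalizer ((base : Subgroup (Perm (Fin m × ZMod p))) : Set (Perm (Fin m × ZMod p))) := by
  refine mem_normalizer_of_conj fun x hx => ?_
  obtain ⟨f, rfl⟩ := mem_base.1 hx
  rw [diagMap_conj_baseMap, mul_inv_cancel_right]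
  exact baseMap_mem_base _

theorem topMap_mem_normalizer (w : Perm (Fin m)) :
    topMap w ∈ Subgroup.normalizer ((base : Subgroup (Perm (Fin m × ZMod p))) : Set (Perm (Fin m × ZMod p))) := by
  refine mem_normalizer_of_conj fun x hx => ?_
  obtain ⟨f, rfl⟩ := mem_base.1 hx
  rw [topMap_conj_baseMap, mul_inv_cancel_right]
  exact baseMap_mem_base _

theorem alt_le_closure (h2 : p ≠ 2) (hpm : p ≤ m) : alternatingGroup (Fin m) ≤
    Subgroup.closure {σ : Perm (Fin m) | σ ∈ alternatingGroup (Fin m) ∧ σ ^ p = 1} := by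
  set T := {σ : Perm (Fin m) | σ ∈ alternatingGroup (Fin m) ∧ σ ^ p = 1}
  have hp3 : 3 ≤ p := by have := hp.out.two_le; omega
  by_cases h3 : p = 3
  · rw [← Perm.closure_three_cycles_eq_alternating]
    exact Subgroup.closure_mono fun σ hσ =>
      ⟨Perm.IsThreeCycle.mem_alternatingGroup hσ, by rw [h3, ← hσ.orderOf]; exact pow_orderOf_eq_one σ⟩
  have hm5 : 5 ≤ Nat.card (Fin m) := by
    rw [Nat.card_eq_fintype_card, Fintype.card_fin]
    have h4 : p ≠ 4 := by rintro rfl; exact absurd hp.out (by norm_num)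
    omega
  have := alternatingGroup.isSimpleGroup hm5
  set H := Subgroup.closure T
  have hnorm : (H.subgroupOf (alternatingGroup (Fin m))).Normal := ⟨fun n hn g => by
    rw [Subgroup.mem_subgroupOf] at hn ⊢
    have hle : H ≤ H.comap (MulAut.conj (g : Perm (Fin m))).toMonoidHom :=
      (Subgroup.closure_le _).2 fun σ hσ => Subgroup.subset_closure
        ⟨mul_mem (mul_mem g.2 hσ.1) (inv_mem g.2), by
          simp only [MulEquiv.coe_toMonoidHom, MulAut.conj_apply, conj_pow, hσ.2, mul_one,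
            mul_inv_cancel]⟩
    exact hle hn⟩
  have hσ : shiftTop hpm ∈ H := Subgroup.subset_closure
    ⟨mem_alt_of_sign (sign_eq_one_of_pow (hp.out.odd_of_ne_two h2) (shiftTop_pow hpm)),
      shiftTop_pow hpm⟩
  have hσ1 : shiftTop hpm ≠ 1 := by
    intro h
    have h' := Equiv.congr_fun h (embJ hpm 0)
    rw [shiftTop, Perm.viaEmbedding_apply, Perm.one_apply] at h'
    exact one_ne_zero (add_eq_left.1 ((embJ hpm).injective h'))
  have hle : H ≤ alternatingGroup (Fin m) := (Subgroup.closure_le _).2 fun σ hσ => hσ.1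
  rcases hnorm.eq_bot_or_eq_top with hb | hb
  · have h4 : (⟨shiftTop hpm, hle hσ⟩ : alternatingGroup (Fin m)) ∈
        H.subgroupOf (alternatingGroup (Fin m)) := Subgroup.mem_subgroupOf.2 hσ
    rw [hb, Subgroup.mem_bot] at h4
    exact absurd (congrArg Subtype.val h4) hσ1
  · exact Subgroup.subgroupOf_eq_top.1 hb

/-! ### The plane of the first `p` blocks -/

/-- The first `p` blocks as a plane. -/
def planeEmb (hpm : p ≤ m) : ZMod p × ZMod p ↪ Fin m × ZMod p :=
  (embJ hpm).prodMap (Function.Embedding.refl _)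

/-- Permutations of the plane acting on `Fin m × ZMod p`. -/
noncomputable def planeHom (hpm : p ≤ m) :
    Perm (ZMod p × ZMod p) →* Perm (Fin m × ZMod p) :=
  Perm.viaEmbeddingHom (planeEmb hpm)

theorem planeHom_apply (hpm : p ≤ m) (s : Perm (ZMod p × ZMod p)) (v : ZMod p × ZMod p) :
    planeHom hpm s (embJ hpm v.1, v.2) = (embJ hpm (s v).1, (s v).2) :=
  Perm.viaEmbedding_apply s (planeEmb hpm) v

theorem planeHom_apply_notMem (hpm : p ≤ m) (s : Perm (ZMod p × ZMod p)) {i : Fin m}
    (hi : ¬(i : ℕ) < p) (x : ZMod p) : planeHom hpm s (i, x) = (i, x) :=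
  Perm.viaEmbedding_apply_of_notMem _ _ _ fun ⟨v, hv⟩ =>
    hi ((mem_range_embJ hpm i).1 ⟨v.1, congrArg Prod.fst hv⟩)

/-- The base functions vanishing on the first `p` blocks. -/
def restGroup : Subgroup (Perm (Fin m × ZMod p)) where
  carrier := {x | ∃ f, (∀ i : Fin m, (i : ℕ) < p → f i = 0) ∧ baseMap f = x}
  one_mem' := ⟨0, fun _ _ => rfl, baseMap_zero'⟩
  mul_mem' := by
    rintro _ _ ⟨f, hf, rfl⟩ ⟨g, hg, rfl⟩
    exact ⟨f + g, fun i hi => by simp [hf i hi, hg i hi], baseMap_add f g⟩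
  inv_mem' := by
    rintro _ ⟨f, hf, rfl⟩
    exact ⟨-f, fun i hi => by simp [hf i hi],
      eq_inv_of_mul_eq_one_left (by rw [← baseMap_add, neg_add_cancel, baseMap_zero'])⟩

/-- Translations of the plane. -/
def translations : Subgroup (Perm (ZMod p × ZMod p)) where
  carrier := {s | ∃ v, Equiv.addRight v = s}
  one_mem' := ⟨0, Equiv.ext fun x => by simp⟩
  mul_mem' := by
    rintro _ _ ⟨v, rfl⟩ ⟨u, rfl⟩
    exact ⟨u + v, Equiv.ext fun x => by simp [add_assoc]⟩
  inv_mem' := by
    rintro _ ⟨v, rfl⟩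
    exact ⟨-v, eq_inv_of_mul_eq_one_left (Equiv.ext fun x => by simp)⟩

/-- Translations of the plane, together with the base functions vanishing on it. -/
noncomputable def planeGroup (hpm : p ≤ m) : Subgroup (Perm (Fin m × ZMod p)) :=
  translations.map (planeHom hpm) ⊔ restGroup

theorem restGroup_le_base : restGroup ≤ (base : Subgroup (Perm (Fin m × ZMod p))) :=
  fun _ ⟨f, _, hf⟩ => mem_base.2 ⟨f, hf⟩

theorem planeHom_trans_snd (hpm : p ≤ m) (b : ZMod p) :
    planeHom hpm (Equiv.addRight (0, b)) =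
      baseMap (fun i : Fin m => if (i : ℕ) < p then b else 0) := by
  refine Equiv.ext fun ⟨i, x⟩ => ?_
  by_cases hi : (i : ℕ) < p
  · obtain ⟨j, rfl⟩ := (mem_range_embJ hpm i).2 hi
    rw [show (embJ hpm j, x) = (embJ hpm (j, x).1, (j, x).2) from rfl, planeHom_apply, baseMap_apply,
      if_pos hi]
    simp
  · rw [planeHom_apply_notMem hpm _ hi, baseMap_apply, if_neg hi, add_zero]

theorem planeHom_trans_fst (hpm : p ≤ m) :
    planeHom hpm (Equiv.addRight (1, 0)) = topMap (shiftTop hpm) := by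
  refine Equiv.ext fun ⟨i, x⟩ => ?_
  by_cases hi : (i : ℕ) < p
  · obtain ⟨j, rfl⟩ := (mem_range_embJ hpm i).2 hi
    rw [show (embJ hpm j, x) = (embJ hpm (j, x).1, (j, x).2) from rfl, planeHom_apply, topMap_apply,
      shiftTop, Perm.viaEmbedding_apply]
    simp
  · rw [planeHom_apply_notMem hpm _ hi, topMap_apply, shiftTop,
      Perm.viaEmbedding_apply_of_notMem _ _ _ fun h => hi ((mem_range_embJ hpm i).1 h)]

theorem planeGroup_le (hpm : p ≤ m) {P : Subgroup (Perm (Fin m))} (hτ : shiftTop hpm ∈ P) :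
    planeGroup hpm ≤ wreathPerm P := by
  refine sup_le ?_ (restGroup_le_base.trans fun x hx => ?_)
  · rintro _ ⟨_, ⟨⟨a, b⟩, rfl⟩, rfl⟩
    have e : Equiv.addRight ((a, b) : ZMod p × ZMod p) =
        Equiv.addRight (1, 0) ^ a.val * Equiv.addRight (0, b) := by
      have hk : ∀ k : ℕ, (Equiv.addRight ((1, 0) : ZMod p × ZMod p)) ^ k =
          Equiv.addRight ((k : ZMod p), 0) := by
        intro k
        induction k with
        | zero => rw [pow_zero, Nat.cast_zero]; ext v <;> simp
        | succ k ih =>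
          rw [pow_succ, ih]
          ext v <;> simp [add_assoc, add_comm, add_left_comm]
      rw [hk, ZMod.natCast_zmod_val]
      ext v <;> simp
    rw [e, map_mul, map_pow, planeHom_trans_fst, planeHom_trans_snd]
    exact mul_mem (pow_mem (topMap_mem_wreathPerm hτ) _) (baseMap_mem_wreathPerm _ _)
  · obtain ⟨f, rfl⟩ := mem_base.1 hx
    exact baseMap_mem_wreathPerm _ _

theorem apply_of_commute_single {y : Perm (Fin m × ZMod p)} {i : Fin m}
    (h : Commute y (baseMap (Pi.single i 1))) (x : ZMod p) :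
    y (i, x) = (i, x + (y (i, 0)).2) := by
  set k : Perm (Fin m × ZMod p) := baseMap (Pi.single i 1)
  have hstep : ∀ u, y (k u) = k (y u) := fun u => Equiv.congr_fun h.eq u
  have hblock : ∀ z, (y (i, z)).1 = i := by
    intro z
    by_contra hne
    have h1 := hstep (i, z)
    rw [show k (i, z) = (i, z + 1) from baseMap_single_apply _ _ _,
      show k (y (i, z)) = y (i, z) from baseMap_single_apply_ne hne _ (y (i, z)).2] at h1
    exact one_ne_zero (add_eq_left.1 (congrArg Prod.snd (y.injective h1)))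
  have hval : ∀ z : ℕ, y (i, (z : ZMod p)) = (i, (z : ZMod p) + (y (i, 0)).2) := by
    intro z
    induction z with
    | zero => rw [Nat.cast_zero, zero_add]; exact Prod.ext (hblock 0) rfl
    | succ z ih =>
      rw [Nat.cast_succ, ← baseMap_single_apply i (1 : ZMod p) (z : ZMod p), hstep, ih,
        show k (i, _) = _ from baseMap_single_apply _ _ _, add_right_comm]
  simpa [ZMod.natCast_zmod_val] using hval x.val

theorem mem_base_of_commute {y : Perm (Fin m × ZMod p)}
    (h : ∀ x ∈ (base : Subgroup (Perm (Fin m × ZMod p))), Commute y x) :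
    y ∈ (base : Subgroup (Perm (Fin m × ZMod p))) :=
  mem_base.2 ⟨fun i => (y (i, 0)).2, Equiv.ext fun ⟨i, x⟩ =>
    (apply_of_commute_single (h _ (baseMap_mem_base _)) x).symm⟩

theorem mem_planeGroup_of_commute (hpm : p ≤ m) {y : Perm (Fin m × ZMod p)}
    (h : ∀ x ∈ planeGroup hpm, Commute y x) : y ∈ planeGroup hpm := by
  have hrest : ∀ i : Fin m, ¬(i : ℕ) < p → ∀ x, y (i, x) = (i, x + (y (i, 0)).2) := by
    intro i hi x
    refine apply_of_commute_single (h _ (Subgroup.mem_sup_right ⟨_, fun k hk => ?_, rfl⟩)) x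
    exact Pi.single_eq_of_ne (by rintro rfl; exact hi hk) _
  obtain ⟨v0, hv0⟩ : ∃ v0 : ZMod p × ZMod p, y (embJ hpm 0, 0) = (embJ hpm v0.1, v0.2) := by
    by_cases hi : ((y (embJ hpm 0, 0)).1 : ℕ) < p
    · obtain ⟨j, hj⟩ := (mem_range_embJ hpm _).2 hi
      exact ⟨(j, (y (embJ hpm 0, 0)).2), Prod.ext hj.symm rfl⟩
    · exfalso
      set i := (y (embJ hpm 0, 0)).1 with hidef
      have h1 : y (i, (y (embJ hpm 0, 0)).2 - (y (i, 0)).2) = y (embJ hpm 0, 0) := by
        rw [hrest i hi, sub_add_cancel]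
      have h2 := congrArg Prod.fst (y.injective h1)
      simp only at h2
      exact hi (h2 ▸ (mem_range_embJ hpm _).1 ⟨0, rfl⟩)
  set f : Fin m → ZMod p := fun i => if (i : ℕ) < p then 0 else (y (i, 0)).2
  have he : planeHom hpm (Equiv.addRight v0) * baseMap f = y := by
    refine Equiv.ext fun ⟨i, x⟩ => ?_
    rw [Perm.mul_apply, baseMap_apply]
    by_cases hi : (i : ℕ) < p
    · simp only [f, if_pos hi, add_zero]
      obtain ⟨j, rfl⟩ := (mem_range_embJ hpm i).2 hi
      rw [show (embJ hpm j, x) = (embJ hpm (j, x).1, (j, x).2) from rfl, planeHom_apply]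
      have hc := Equiv.congr_fun (h _ (Subgroup.mem_sup_left (Subgroup.mem_map_of_mem (planeHom hpm)
        (⟨(j, x), rfl⟩ : Equiv.addRight (j, x) ∈ translations)))).eq (embJ hpm 0, 0)
      simp only [Perm.mul_apply] at hc
      rw [hv0, planeHom_apply, show ((embJ hpm 0, (0 : ZMod p)) : Fin m × ZMod p) =
        (embJ hpm (0, (0 : ZMod p)).1, ((0, 0) : ZMod p × ZMod p).2) from rfl, planeHom_apply] at hc
      simp only [Equiv.coe_addRight, Prod.mk_add_mk, zero_add] at hc
      rw [hc]
      simp [add_comm]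
    · simp only [f, if_neg hi]
      rw [planeHom_apply_notMem hpm _ hi]
      exact (hrest i hi x).symm
  rw [← he]
  exact mul_mem (Subgroup.mem_sup_left (Subgroup.mem_map_of_mem _ ⟨v0, rfl⟩))
    (Subgroup.mem_sup_right ⟨f, fun i hi => if_pos hi, rfl⟩)

theorem planeHom_mem_normalizer (hpm : p ≤ m) {s : Perm (ZMod p × ZMod p)}
    (hs : ∀ a b, s (a + b) = s a + s b) :
    planeHom hpm s ∈ Subgroup.normalizer ((planeGroup hpm : Subgroup (Perm (Fin m × ZMod p))) : Set (Perm (Fin m × ZMod p))) := by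
  refine mem_normalizer_of_conj fun x hx => ?_
  have hle : planeGroup hpm ≤ (planeGroup hpm).comap (MulAut.conj (planeHom hpm s)).toMonoidHom := by
    refine sup_le ?_ ?_
    · rintro _ ⟨_, ⟨v, rfl⟩, rfl⟩
      refine Subgroup.mem_sup_left ⟨Equiv.addRight (s v), ⟨_, rfl⟩, ?_⟩
      show _ = planeHom hpm s * planeHom hpm (Equiv.addRight v) * (planeHom hpm s)⁻¹
      rw [← map_inv, ← map_mul, ← map_mul]
      congr 1
      refine Equiv.ext fun u => ?_
      simp only [Perm.mul_apply, Equiv.coe_addRight, hs]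
      simp
    · rintro _ ⟨f, hf, rfl⟩
      refine Subgroup.mem_sup_right ⟨f, hf, ?_⟩
      show _ = planeHom hpm s * baseMap f * (planeHom hpm s)⁻¹
      rw [eq_mul_inv_iff_mul_eq]
      refine Equiv.ext fun ⟨i, a⟩ => ?_
      simp only [Perm.mul_apply, baseMap_apply]
      by_cases hi : (i : ℕ) < p
      · obtain ⟨j, rfl⟩ := (mem_range_embJ hpm i).2 hi
        rw [hf _ hi, add_zero, show (embJ hpm j, a) = (embJ hpm (j, a).1, (j, a).2) from rfl,
          planeHom_apply, baseMap_apply, hf _ ((mem_range_embJ hpm _).1 ⟨_, rfl⟩), add_zero]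
      · rw [planeHom_apply_notMem hpm _ hi, baseMap_apply, planeHom_apply_notMem hpm _ hi]
  exact hle hx

/-- `(j, x) ↦ (j + a x, x)`. -/
def shearU (a : ZMod p) : Perm (ZMod p × ZMod p) where
  toFun v := (v.1 + a * v.2, v.2)
  invFun v := (v.1 - a * v.2, v.2)
  left_inv v := by simp
  right_inv v := by simp

/-- `(j, x) ↦ (j, x + b j)`. -/
def shearL (b : ZMod p) : Perm (ZMod p × ZMod p) where
  toFun v := (v.1, v.2 + b * v.1)
  invFun v := (v.1, v.2 - b * v.1)
  left_inv v := by simp
  right_inv v := by simp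

theorem shearU_pow (a : ZMod p) (k : ℕ) : shearU a ^ k = shearU ((k : ZMod p) * a) := by
  induction k with
  | zero => ext v <;> simp [shearU]
  | succ k ih =>
    rw [pow_succ, ih]
    ext v <;> simp [shearU]
    ring

theorem shearL_pow (b : ZMod p) (k : ℕ) : shearL b ^ k = shearL ((k : ZMod p) * b) := by
  induction k with
  | zero => ext v <;> simp [shearL]
  | succ k ih =>
    rw [pow_succ, ih]
    ext v <;> simp [shearL]
    ring

/-- `(j, x) ↦ (l⁻¹ j, l x)`. -/
def torus (l : (ZMod p)ˣ) : Perm (ZMod p × ZMod p) :=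
  Equiv.prodCongr (Units.mulLeft l⁻¹) (Units.mulLeft l)

/-- The element of the torus inside `SL₂` of the plane. -/
noncomputable def torusElem (hpm : p ≤ m) (l : (ZMod p)ˣ) : Perm (Fin m × ZMod p) :=
  planeHom hpm (torus l)

theorem torus_eq (l : (ZMod p)ˣ) : torus l =
    (shearU ((l⁻¹ : (ZMod p)ˣ) : ZMod p) * shearL (-(l : ZMod p)) * shearU ((l⁻¹ : (ZMod p)ˣ) : ZMod p)) *
      (shearU (-1) * shearL 1 * shearU (-1)) := by
  have h : (l : ZMod p) * ((l⁻¹ : (ZMod p)ˣ) : ZMod p) = 1 := Units.mul_inv l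
  refine Equiv.ext fun ⟨a, b⟩ => ?_
  simp only [torus, Perm.mul_apply, shearU, shearL, Equiv.coe_fn_mk, Equiv.prodCongr_apply, Prod.map,
    Units.mulLeft_apply]
  ext
  · simp only; linear_combination (((l⁻¹ : (ZMod p)ˣ) : ZMod p) * a - b) * h
  · simp only; linear_combination a * h

theorem torusElem_mem_closure (h2 : p ≠ 2) (hpm : p ≤ m) (l : (ZMod p)ˣ) :
    torusElem hpm l ∈ Subgroup.closure {g : Perm (Fin m × ZMod p) |
      g ∈ alternatingGroup (Fin m × ZMod p) ∧ g ^ p = 1 ∧
      g ∈ Subgroup.normalizer ((planeGroup hpm : Subgroup (Perm (Fin m × ZMod p))) : Set (Perm (Fin m × ZMod p)))} := by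
  have key : ∀ s : Perm (ZMod p × ZMod p), (∀ a b, s (a + b) = s a + s b) → s ^ p = 1 →
      planeHom hpm s ∈ {g : Perm (Fin m × ZMod p) | g ∈ alternatingGroup (Fin m × ZMod p) ∧ g ^ p = 1 ∧
        g ∈ Subgroup.normalizer ((planeGroup hpm : Subgroup (Perm (Fin m × ZMod p))) : Set (Perm (Fin m × ZMod p)))} :=
    fun s hs hsp => ⟨mem_alt_of_sign (sign_eq_one_of_pow (hp.out.odd_of_ne_two h2)
      (by rw [← map_pow, hsp, map_one])), by rw [← map_pow, hsp, map_one],
      planeHom_mem_normalizer hpm hs⟩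
  have hU : ∀ a, planeHom hpm (shearU a) ∈ Subgroup.closure {g : Perm (Fin m × ZMod p) |
      g ∈ alternatingGroup (Fin m × ZMod p) ∧ g ^ p = 1 ∧
      g ∈ Subgroup.normalizer ((planeGroup hpm : Subgroup (Perm (Fin m × ZMod p))) : Set (Perm (Fin m × ZMod p)))} :=
    fun a => Subgroup.subset_closure (key _ (fun u v => by simp [shearU]; ring)
      (by rw [shearU_pow, ZMod.natCast_self, zero_mul]; ext v <;> simp [shearU]))
  have hL : ∀ a, planeHom hpm (shearL a) ∈ Subgroup.closure {g : Perm (Fin m × ZMod p) |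
      g ∈ alternatingGroup (Fin m × ZMod p) ∧ g ^ p = 1 ∧
      g ∈ Subgroup.normalizer ((planeGroup hpm : Subgroup (Perm (Fin m × ZMod p))) : Set (Perm (Fin m × ZMod p)))} :=
    fun a => Subgroup.subset_closure (key _ (fun u v => by simp [shearL]; ring)
      (by rw [shearL_pow, ZMod.natCast_self, zero_mul]; ext v <;> simp [shearL]))
  rw [torusElem, torus_eq]
  simp only [map_mul]
  exact mul_mem (mul_mem (mul_mem (hU _) (hL _)) (hU _)) (mul_mem (mul_mem (hU _) (hL _)) (hU _))

theorem torusElem_eq (hpm : p ≤ m) (l : (ZMod p)ˣ) :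
    ∃ (v : Perm (Fin m)) (e : Fin m → (ZMod p)ˣ), torusElem hpm l = topMap v * diagMap e ∧
      ∏ i, e i = l := by
  refine ⟨Perm.viaEmbedding (Units.mulLeft l⁻¹) (embJ hpm), fun i => if (i : ℕ) < p then l else 1,
    Equiv.ext fun ⟨i, x⟩ => ?_, ?_⟩
  · rw [Perm.mul_apply, diagMap_apply, topMap_apply]
    by_cases hi : (i : ℕ) < p
    · obtain ⟨j, rfl⟩ := (mem_range_embJ hpm i).2 hi
      rw [Perm.viaEmbedding_apply, if_pos hi, torusElem,
        show (embJ hpm j, x) = (embJ hpm (j, x).1, (j, x).2) from rfl, planeHom_apply]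
      rfl
    · rw [Perm.viaEmbedding_apply_of_notMem _ _ _ fun h => hi ((mem_range_embJ hpm i).1 h),
        if_neg hi, torusElem, planeHom_apply_notMem hpm _ hi, Units.val_one, one_mul]
  · have hf : (Finset.univ.filter fun i : Fin m => (i : ℕ) < p) = Finset.univ.map (embJ hpm) := by
      ext i
      rw [Finset.mem_filter, ← mem_range_embJ hpm i]
      simp
    rw [Finset.prod_ite, Finset.prod_const, Finset.prod_const_one, mul_one, hf, Finset.card_map,
      Finset.card_univ, ZMod.card]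
    exact Units.ext (by rw [Units.val_pow_eq_pow_val, ZMod.pow_card])

theorem torusElem_mem_normalizer_base (hpm : p ≤ m) (l : (ZMod p)ˣ) :
    torusElem hpm l ∈ Subgroup.normalizer ((base : Subgroup (Perm (Fin m × ZMod p))) : Set (Perm (Fin m × ZMod p))) := by
  obtain ⟨v, e, h, -⟩ := torusElem_eq hpm l
  rw [h]
  exact mul_mem (topMap_mem_normalizer v) (diagMap_mem_normalizer e)

theorem torusElem_mem_normalizer_plane (hpm : p ≤ m) (l : (ZMod p)ˣ) :
    torusElem hpm l ∈ Subgroup.normalizer ((planeGroup hpm : Subgroup (Perm (Fin m × ZMod p))) : Set (Perm (Fin m × ZMod p))) :=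
  planeHom_mem_normalizer hpm fun _ _ => Prod.ext (mul_add _ _ _) (mul_add _ _ _)

/-- A normal subgroup of the even normalizer of the base group containing its elements of order
`p` and the torus elements is the whole even normalizer. -/
theorem mem_of_normalizes_base (h2 : p ≠ 2) (hm : 3 ≤ m) (hpm : p ≤ m)
    (M : Subgroup (Perm (Fin m × ZMod p))) (hM : M ≤ alternatingGroup (Fin m × ZMod p))
    (hpel : ∀ g ∈ alternatingGroup (Fin m × ZMod p),
      g ∈ Subgroup.normalizer ((base : Subgroup (Perm (Fin m × ZMod p))) : Set (Perm (Fin m × ZMod p))) →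
      g ^ p = 1 → g ∈ M)
    (hnorm : ∀ g ∈ alternatingGroup (Fin m × ZMod p),
      g ∈ Subgroup.normalizer ((base : Subgroup (Perm (Fin m × ZMod p))) : Set (Perm (Fin m × ZMod p))) →
      ∀ x ∈ M, g * x * g⁻¹ ∈ M)
    (ht : ∀ l, torusElem hpm l ∈ M) {g : Perm (Fin m × ZMod p)}
    (hg : g ∈ alternatingGroup (Fin m × ZMod p))
    (hgN : g ∈ Subgroup.normalizer ((base : Subgroup (Perm (Fin m × ZMod p))) : Set (Perm (Fin m × ZMod p)))) :
    g ∈ M := by
  have hbase : ∀ f, baseMap f ∈ M := fun f =>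
    hpel _ (mem_alt_of_sign (sign_eq_one_of_pow (hp.out.odd_of_ne_two h2) (baseMap_pow_prime f)))
      (Subgroup.le_normalizer (baseMap_mem_base f)) (baseMap_pow_prime f)
  have htop : ∀ σ ∈ alternatingGroup (Fin m), topMap σ ∈ M := by
    intro σ hσ
    have h1 := Subgroup.mem_map_of_mem (topHom (p := p)) (alt_le_closure h2 hpm hσ)
    rw [MonoidHom.map_closure] at h1
    refine (Subgroup.closure_le _).2 ?_ h1
    rintro _ ⟨τ, ⟨hτ, hτp⟩, rfl⟩
    exact hpel _ (mem_alt_of_sign (sign_topMap_of_pow hτp)) (topMap_mem_normalizer τ)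
      (by rw [← map_pow, hτp, map_one])
  have hpair : ∀ a c : Fin m, ∀ l : (ZMod p)ˣ,
      diagMap (Pi.mulSingle c l * Pi.mulSingle a l⁻¹) ∈ M := by
    intro a c l
    rcases eq_or_ne a c with rfl | hac
    · rw [← Pi.mulSingle_mul, mul_inv_cancel, Pi.mulSingle_one, diagMap_one]
      exact one_mem M
    obtain ⟨b, hb⟩ : (({a, c} : Finset (Fin m))ᶜ).Nonempty := by
      rw [← Finset.card_pos, Finset.card_compl, Finset.card_pair hac, Fintype.card_fin]
      omega
    simp only [Finset.mem_compl, Finset.mem_insert, Finset.mem_singleton, not_or] at hb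
    have hba : b ≠ a := hb.1
    have hbc : b ≠ c := hb.2
    set σ : Perm (Fin m) := swap a b * swap b c
    have hσ : σ ∈ alternatingGroup (Fin m) := mem_alt_of_sign (by
      rw [map_mul, Perm.sign_swap hba.symm, Perm.sign_swap hbc, Int.units_mul_self])
    set d : Fin m → (ZMod p)ˣ := Pi.mulSingle a l * Pi.mulSingle b l
    have hdA : diagMap d ∈ alternatingGroup (Fin m × ZMod p) := by
      have h1 : ∀ k, Perm.sign (diagMap (Pi.mulSingle k l : Fin m → (ZMod p)ˣ)) =
          Perm.sign (Units.mulLeft l) := by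
        intro k
        rw [diagMap, Perm.sign_prodCongrRight, Finset.prod_eq_single k]
        · rw [Pi.mulSingle_eq_same]
        · intro i _ hi
          rw [Pi.mulSingle_eq_of_ne hi]
          convert Perm.sign_one
          ext x; simp
        · exact fun h => absurd (Finset.mem_univ _) h
      refine mem_alt_of_sign ?_
      rw [diagMap_mul, map_mul, h1, h1, Int.units_mul_self]
    have h3 := mul_mem (htop σ hσ) (hnorm _ hdA (diagMap_mem_normalizer d) _ (inv_mem (htop σ hσ)))
    have e : topMap (p := p) σ * (diagMap d * (topMap σ)⁻¹ * (diagMap d)⁻¹) =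
        diagMap ((fun i => d (σ⁻¹ i)) * d⁻¹) := by
      rw [diagMap_mul (fun i => d (σ⁻¹ i)) d⁻¹, diagMap_inv, ← mul_assoc, ← mul_assoc,
        topMap_conj_diagMap, mul_inv_cancel_right]
    rw [e] at h3
    convert h3 using 2
    funext i
    have hi : σ⁻¹ i = swap b c (swap a b i) := by simp [σ, Perm.mul_apply]
    simp only [Pi.mul_apply, Pi.inv_apply, hi, d]
    rcases eq_or_ne i a with rfl | hia
    · simp [hac, hba, hba.symm, hac.symm, hbc, hbc.symm]
    rcases eq_or_ne i b with rfl | hib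
    · simp [hac, hba, hba.symm, hac.symm, hbc, hbc.symm, swap_apply_of_ne_of_ne]
    rcases eq_or_ne i c with rfl | hic
    · simp [hac, hba, hba.symm, hac.symm, hbc, hbc.symm, swap_apply_of_ne_of_ne]
    simp [hia, hib, hic, swap_apply_of_ne_of_ne]
  have hdiag : ∀ d : Fin m → (ZMod p)ˣ, ∏ i, d i = 1 → diagMap d ∈ M := by
    intro d hd
    let i0 : Fin m := ⟨0, by omega⟩
    have h1 : d = ∏ i, (Pi.mulSingle i (d i) * Pi.mulSingle i0 (d i)⁻¹) := by
      rw [Finset.prod_mul_distrib, Finset.univ_prod_mulSingle]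
      have h2 : ∏ i, (Pi.mulSingle i0 (d i)⁻¹ : Fin m → (ZMod p)ˣ) = 1 := by
        show ∏ i, MonoidHom.mulSingle (fun _ => (ZMod p)ˣ) i0 (d i)⁻¹ = 1
        rw [← map_prod, Finset.prod_inv_distrib, hd, inv_one, map_one]
      rw [h2, mul_one]
    have h3 : ∀ s : Finset (Fin m),
        diagMap (∏ i ∈ s, (Pi.mulSingle i (d i) * Pi.mulSingle i0 (d i)⁻¹)) ∈ M := by
      intro s
      induction s using Finset.induction with
      | empty => rw [Finset.prod_empty, diagMap_one]; exact one_mem M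
      | insert a s ha ih => rw [Finset.prod_insert ha, diagMap_mul]; exact mul_mem (hpair _ _ _) ih
    rw [h1]
    exact h3 _
  obtain ⟨c, d, w, rfl⟩ := exists_normal_form hgN
  obtain ⟨v, e, he, hprod⟩ := torusElem_eq hpm (∏ i, d i)
  have hδ : diagMap (e⁻¹ * d) ∈ M := hdiag _ (by
    simp only [Pi.mul_apply, Pi.inv_apply, Finset.prod_mul_distrib, Finset.prod_inv_distrib, hprod,
      inv_mul_cancel])
  have heq : baseMap c * topMap w * diagMap d =
      baseMap c * topMap (w * v⁻¹) * torusElem hpm (∏ i, d i) * diagMap (e⁻¹ * d) := by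
    rw [he, mul_assoc _ (topMap v * diagMap e) (diagMap (e⁻¹ * d)), mul_assoc (topMap v),
      ← diagMap_mul, mul_inv_cancel_left, ← mul_assoc, mul_assoc (baseMap c) (topMap (w * v⁻¹)),
      ← topMap_mul, inv_mul_cancel_right]
  rw [heq] at hg ⊢
  refine mul_mem (mul_mem (mul_mem (hbase c) (htop _ (mem_alt_of_sign ?_))) (ht _)) hδ
  have h1 := Perm.mem_alternatingGroup.1 hg
  rw [map_mul, map_mul, map_mul, Perm.mem_alternatingGroup.1 (hM (hbase c)),
    Perm.mem_alternatingGroup.1 (hM (ht _)), Perm.mem_alternatingGroup.1 (hM hδ), one_mul, mul_one,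
    mul_one, sign_topMap] at h1
  obtain ⟨k, hk⟩ := hp.out.odd_of_ne_two h2
  rwa [hk, pow_succ, pow_mul, Int.units_sq, one_pow, one_mul] at h1

end Cfsg.Agent.AltFusion
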